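import Cfsg.Agent.OrthCubic.Torus

/-!
# The radical of the stabiliser of a singular line

If no non-trivial member of the group fixes a hyperplane orthogonal to a singular `K`-line, then the members
stabilising that line normalise the field.
-/

set_option autoImplicit false
set_option linter.unusedSectionVars false

namespace CfsgLib.OrthCubic

open Matrix Module CfsgLib.Spinor CfsgLib.OrthMax

variable {F : Type*} [Field F] [Fintype F] {ι : Type} [Fintype ι] [DecidableEq ι]
  {Q : QuadraticForm F (ι → F)}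
variable {K : Type*} [Field K] [Algebra F K] [Module K (ι → F)] [IsScalarTower F K (ι → F)]

namespace Cubic

variable (c : Cubic Q K)
include c

/-- Fixing everything orthogonal to the line of `u`. -/
def InZ (u : ι → F) (r : Isom Q) : Prop := ∀ x, c.h u x = 0 → mat Q r *ᵥ x = x

/-- No non-trivial member of `M` fixes the orthogonal of the line of `u`. -/
def NoZ (M : Subgroup (Isom Q)) (u : ι → F) : Prop := ∀ r ∈ M, c.InZ u r → r = 1

/-- Trivial on the line and on the section orthogonal to it. -/
def IsRad (u v : ι → F) (r : Isom Q) : Prop :=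
  (∀ k : K, mat Q r *ᵥ (k • u) = k • u) ∧ ∀ w, c.Rest u v w → ∃ a : K, mat Q r *ᵥ w = w + a • u

/-- Orthogonality to a whole `K`-line. -/
theorem h_eq_zero_of_polar {x y : ι → F} (e : ∀ k : K, QuadraticMap.polar (⇑Q) (k • x) y = 0) :
    c.h x y = 0 :=
  c.h_eq_of_trace fun l => by rw [mul_zero, map_zero, ← e l, c.tr, LinearMap.map_smul₂, smul_eq_mul]

theorem eq_of_h {x y : ι → F} (e : ∀ z, c.h x z = c.h y z) : x = y :=
  sub_eq_zero.1 (c.h_sep fun z => by rw [map_sub, LinearMap.sub_apply, e, sub_self])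

/-- The component orthogonal to a pair, of a vector orthogonal to its first member. -/
theorem decomp_left {u v : ι → F} {x : ι → F} (hx : c.h u x = 0) : x = c.h v x • u + c.rest u v x := by
  conv_lhs => rw [c.decomp u v x, hx, zero_smul, add_zero]

theorem IsRad.h_left {u v : ι → F} {r : Isom Q} (hr : c.IsRad u v r) (x : ι → F) :
    c.h u (mat Q r *ᵥ x) = c.h u x := by
  refine c.h_eq_of_trace fun l => ?_
  have := polar_mulVec Q r (l • u) x
  rw [hr.1, c.tr, c.tr, LinearMap.map_smul₂, LinearMap.map_smul₂] at this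
  simpa using this

theorem IsRad.on_left {u v : ι → F} {r : Isom Q} (hr : c.IsRad u v r) {y : ι → F} (hy : c.h u y = 0)
    (hp : c.Pair u v) : ∃ a : K, mat Q r *ᵥ y = y + a • u := by
  obtain ⟨a, ha⟩ := hr.2 _ (hp.rest_spec y)
  refine ⟨a, ?_⟩
  conv_lhs => rw [c.decomp_left (v := v) hy]
  rw [mulVec_add, hr.1, ha, ← add_assoc, ← c.decomp_left hy]

theorem eK_rest {u v w x : ι → F} (hw : c.Rest u v w) (hx : c.Rest u v x) :
    c.eK u w x = x - c.h w x • u := by
  rw [eK_apply, hx.1]
  simp [sub_eq_add_neg]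

theorem eK_partner {u v w : ι → F} (hp : c.Pair u v) (hw : c.Rest u v w) (k : K) :
    c.eK u w (k • v) = k • v + k • w - (c.q w * k) • u := by
  rw [eK_apply, map_smul, map_smul, hp.2.2, show c.h w v = 0 by rw [c.symm, hw.2]]
  simp
  abel

variable {M : Subgroup (Isom Q)}

/-- Members acting trivially on the line and the section are Eichler elements over `K`. -/
theorem lin_of_isRad (hM : Below K M) {u v : ι → F} (hp : c.Pair u v) (hz : c.NoZ M u) {r : Isom Q}
    (hr : r ∈ M) (hrad : c.IsRad u v r) :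
    ∃ w, c.Rest u v w ∧ ∀ x, mat Q r *ᵥ x = c.eK u w x := by
  set g := c.rest u v (mat Q r *ᵥ v) with hg
  have hgR : c.Rest u v g := hp.rest_spec _
  -- `r` commutes with the Eichler elements
  have hcomm : ∀ w, c.Rest u v w → ∀ x, mat Q r *ᵥ c.eK u w x = c.eK u w (mat Q r *ᵥ x) := by
    intro w hw
    obtain ⟨e, heM, -, -, he⟩ := c.exists_eK hM hp.1 hw.1
    have h1 : (e * r)⁻¹ * (r * e) = 1 := hz _ (M.mul_mem (M.inv_mem (M.mul_mem heM hr)) (M.mul_mem hr heM))
      fun y hy => by
        obtain ⟨a, ha⟩ := hrad.on_left c hy hp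
        have hEy : c.eK u w y = y - c.h w y • u := by
          rw [eK_apply, hy]; simp [sub_eq_add_neg]
        have hEu : c.eK u w u = u := c.eK_self hp.1 hw.1
        rw [mat_mul, ← mulVec_mulVec]
        refine (mulVec_eq_iff (e * r)).1 ?_
        rw [mulVec_inv_cancel, mat_mul, mat_mul, ← mulVec_mulVec, ← mulVec_mulVec, ha, he, he, hEy,
          mulVec_sub, ha, hrad.1, map_add, map_smul, hEy, hEu]
        abel
    intro x
    have h2 : r * e = e * r := (inv_mul_eq_one.1 h1).symm
    rw [← he, ← he, mulVec_mulVec, mulVec_mulVec, ← mat_mul, ← mat_mul, h2]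
  -- evaluate at the partner
  have hf : ∀ w, c.Rest u v w → ∀ k : K, mat Q r *ᵥ (k • w) = k • w - (k * c.h g w) • u := by
    have key : ∀ w, c.Rest u v w → ∀ k : K, mat Q r *ᵥ (k • w) = k • w - c.h w (mat Q r *ᵥ (k • v)) • u := by
      intro w hw k
      have e := hcomm w hw (k • v)
      rw [c.eK_partner hp hw, mulVec_sub, mulVec_add, hrad.1, eK_apply, hrad.h_left c, map_smul, hp.2.2,
        smul_eq_mul, mul_one] at e
      linear_combination (norm := module) e
    intro w hw k
    have hkw : c.Rest u v (k • w) := ⟨by rw [map_smul, hw.1, smul_zero], by rw [map_smul, hw.2, smul_zero]⟩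
    have e := key _ hkw 1
    rw [one_smul, one_smul] at e
    have hd : c.h w (mat Q r *ᵥ v) = c.h g w := by
      conv_lhs => rw [c.decomp u v (mat Q r *ᵥ v), ← hg]
      simp [show c.h w u = 0 by rw [c.symm, hw.1], show c.h w v = 0 by rw [c.symm, hw.2], c.symm w g]
    rw [e, LinearMap.map_smul₂, hd, smul_eq_mul]
  obtain ⟨e, heM, -, -, he⟩ := c.exists_eK hM hp.1 hgR.1
  refine ⟨g, hgR, fun x => ?_⟩
  have h1 : e⁻¹ * r = 1 := hz _ (M.mul_mem (M.inv_mem heM) hr) fun y hy => by
    refine (mulVec_eq_iff e).1 ?_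
    rw [mat_mul, ← mulVec_mulVec, mulVec_inv_cancel, he]
    have hR := hp.rest_spec y
    have := hf _ hR 1
    rw [one_smul, one_mul] at this
    conv_lhs => rw [c.decomp_left (v := v) hy, mulVec_add, hrad.1, this]
    conv_rhs => rw [c.decomp_left (v := v) hy, map_add, map_smul, c.eK_self hp.1 hgR.1, c.eK_rest hgR hR]
  rw [← he, inv_mul_eq_one.1 h1]

/-- In the rest, orthogonal lines are unique. -/
theorem perp_line {u v w y y' : ι → F} (hp : c.Pair u v) (hw : c.Rest u v w) (hw0 : w ≠ 0)
    (hy : c.Rest u v y) (hy0 : y ≠ 0) (hwy : c.h w y = 0) (hy' : c.Rest u v y') (hwy' : c.h w y' = 0) :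
    ∃ a : K, y' = a • y := by
  have := c.fdK
  have hyy := hp.aniso hy hy0
  have hww := hp.aniso hw hw0
  set a := c.h y y' / c.h y y
  set z := y' - a • y with hz
  refine ⟨a, sub_eq_zero.1 (c.h_sep ?_ : z = 0)⟩
  have hu : c.h u z = 0 := by simp [hz, hy.1, hy'.1]
  have hv : c.h v z = 0 := by simp [hz, hy.2, hy'.2]
  have hw' : c.h w z = 0 := by simp [hz, hwy, hwy']
  have hy2 : c.h y z = 0 := by
    simp only [hz, map_sub, map_smul, smul_eq_mul, a]
    field_simp
    ring
  have hLI : LinearIndependent K ![u, v, w, y] := by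
    rw [Fintype.linearIndependent_iff]
    intro t ht
    rw [Fin.sum_univ_four] at ht
    simp only [Matrix.cons_val] at ht
    have e1 := congrArg (c.h u) ht
    have e2 := congrArg (c.h v) ht
    have e3 := congrArg (c.h w) ht
    have e4 := congrArg (c.h y) ht
    simp [hp.1, hp.2.1, hp.2.2, hp.vu, hw.1, hw.2, hy.1, hy.2, hwy, c.symm w u, c.symm w v, c.symm y u,
      c.symm y v, c.symm y w, hww, hyy] at e1 e2 e3 e4
    intro i
    fin_cases i <;> simp [e1, e2, e3, e4]
  have hspan := hLI.span_eq_top_of_card_eq_finrank (by rw [Fintype.card_fin, c.dim])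
  intro x
  have hx : x ∈ Submodule.span K (Set.range ![u, v, w, y]) := by rw [hspan]; trivial
  induction hx using Submodule.span_induction with
  | mem x hx =>
    obtain ⟨i, rfl⟩ := hx
    rw [c.symm]
    fin_cases i
    exacts [hu, hv, hw', hy2]
  | zero => rw [map_zero]
  | add a b _ _ ha hb => rw [map_add, ha, hb, add_zero]
  | smul k a _ ha => rw [map_smul, ha, smul_zero]

/-- A second vector of the rest, orthogonal to a given one. -/
theorem exists_perp_rest {u v w : ι → F} (hp : c.Pair u v) (hw : c.Rest u v w) (hw0 : w ≠ 0) :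
    ∃ y, c.Rest u v y ∧ y ≠ 0 ∧ c.h w y = 0 := by
  have := c.fdK
  have hww := hp.aniso hw hw0
  by_contra! hno
  have htop : Submodule.span K ({u, v, w} : Set (ι → F)) = ⊤ := by
    refine Submodule.eq_top_iff'.2 fun x => ?_
    set y := c.rest u v x - (c.h w (c.rest u v x) / c.h w w) • w with hy
    have hR := hp.rest_spec x
    have hy1 : c.Rest u v y := ⟨by simp [hy, hR.1, hw.1], by simp [hy, hR.2, hw.2]⟩
    have hy0 : y = 0 := by
      by_contra hne
      refine hno y hy1 hne ?_
      simp only [hy, map_sub, map_smul, smul_eq_mul]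
      field_simp
      ring
    rw [c.decomp u v x, sub_eq_zero.1 hy0]
    refine Submodule.add_mem _ (Submodule.add_mem _ ?_ ?_) ?_ <;>
      exact Submodule.smul_mem _ _ (Submodule.subset_span (by simp))
  classical
  have h2 := finrank_span_finset_le_card ({u, v, w} : Finset (ι → F)) (R := K)
  rw [Finset.coe_insert, Finset.coe_insert, Finset.coe_singleton, Set.finrank, htop, finrank_top, c.dim] at h2
  have h3 : ({u, v, w} : Finset (ι → F)).card ≤ 3 := Finset.card_le_three
  omega

end Cubic

end CfsgLib.OrthCubic
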