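import Cfsg.Agent.OrthCubic.SmallNormal

/-!
# Groups of coprime order normalised by a large prime order element

`commute_of_normalises_lt`: an element of prime order `s` above the dimension centralises every
`ℓ`-group it normalises, `ℓ` neither `s` nor the characteristic; `commute_of_normalises`: in dimension at most six an element of prime order `s ≥ 7` centralises every
`ℓ`-group it normalises, `ℓ` neither `s` nor the characteristic.
-/

set_option autoImplicit false
set_option linter.unusedSectionVars false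
set_option maxHeartbeats 2000000

namespace CfsgLib.OrthCubic

open Module

variable {F V : Type*} [Field F] [Fintype F] [AddCommGroup V] [Module F V] [FiniteDimensional F V]

local notation "𝕌" => (Module.End F V)ˣ

theorem no_small_square {ℓ k s n : ℕ} (hl : ℓ.Prime) (hk : k ≠ 0) (hle : ℓ ^ (2 * k) ≤ n * n) (hs : s.Prime)
    (hn : n < s) (hpow : ∀ j, n = 2 ^ j → n + 1 < s) (hdvd : s ∣ ℓ ^ (2 * k) - 1) : False := by
  rw [two_mul, pow_add] at hle hdvd
  have h2 : 2 ≤ ℓ ^ k := le_trans hl.two_le (Nat.le_self_pow hk ℓ)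
  have h1 : ℓ ^ k ≤ n := Nat.mul_self_le_mul_self_iff.1 hle
  have hm : ℓ ^ k * ℓ ^ k - 1 = (ℓ ^ k + 1) * (ℓ ^ k - 1) := by
    simpa [pow_two] using Nat.sq_sub_sq (ℓ ^ k) 1
  rw [hm, hs.dvd_mul] at hdvd
  have hsk : s = ℓ ^ k + 1 := by
    rcases hdvd with h | h
    · exact le_antisymm (Nat.le_of_dvd (by omega) h) (by omega)
    · exact absurd (Nat.le_of_dvd (by omega) h) (by omega)
  rcases hl.eq_two_or_odd' with rfl | hodd
  · exact absurd (hpow k (by omega)) (by omega)
  · have : Even s := hsk ▸ (hodd.pow).add_one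
    have := (hs.even_iff).1 this
    omega

/-- An element of prime order above the dimension centralises the groups of coprime order it normalises,
unless the order is a Fermat prime and the dimension one less. -/
theorem commute_of_normalises_lt {s ℓ : ℕ} [hs : Fact s.Prime] [hl : Fact ℓ.Prime]
    (hn : finrank F V < s) (hpow : ∀ j, finrank F V = 2 ^ j → finrank F V + 1 < s)
    (hℓs : ℓ ≠ s) (hℓF : (ℓ : F) ≠ 0) {t : 𝕌} (ht : t ^ s = 1) {R : Subgroup 𝕌}
    (hR : IsPGroup ℓ R) (hnorm : ∀ r ∈ R, t * r * t⁻¹ ∈ R) : ∀ r ∈ R, t * r = r * t := by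
  classical
  have := finite_end (F := F) (V := V)
  have : Finite 𝕌 := inferInstance
  induction hN : Nat.card R using Nat.strong_induction_on generalizing R with
  | _ N ih =>
  subst hN
  by_contra hnot
  have hsub : ∀ S : Subgroup 𝕌, S ≤ R → S ≠ R → (∀ r ∈ S, t * r * t⁻¹ ∈ S) → ∀ r ∈ S, t * r = r * t :=
    fun S hle hne hS => ih _ (lt_of_le_of_ne (Subgroup.card_le_of_le hle) fun h =>
      hne (Subgroup.eq_of_le_of_card_ge hle h.ge)) (hR.to_le hle) hS rfl
  have hconj : ∀ a b : 𝕌, t * (a * b) * t⁻¹ = (t * a * t⁻¹) * (t * b * t⁻¹) := fun a b => by group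
  have hcopF : ∀ S : Subgroup 𝕌, S ≤ R → Nat.Coprime (Fintype.card F) (Nat.card S) := by
    intro S hle
    obtain ⟨n, hn⟩ := IsPGroup.iff_card.1 (hR.to_le hle)
    rw [hn]
    refine Nat.Coprime.pow_right _ (Nat.Coprime.symm (hl.out.coprime_iff_not_dvd.2 fun h => hℓF ?_))
    obtain ⟨p, hp⟩ := CharP.exists F
    obtain ⟨m, hpp, hm⟩ := FiniteField.card F p
    rw [hm] at h
    rw [(Nat.prime_dvd_prime_iff_eq hl.out hpp).1 (hl.out.dvd_of_dvd_pow h), CharP.cast_eq_zero]
  -- an element of `ℓ`-power order killed by `s` is trivial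
  have hkill : ∀ d ∈ R, d ^ s = 1 → d = 1 := by
    intro d hd hds
    obtain ⟨n, hn⟩ := hR ⟨d, hd⟩
    have hn' : d ^ ℓ ^ n = 1 := by simpa using congrArg Subtype.val hn
    have h := pow_gcd_eq_one.2 ⟨hds, hn'⟩
    rwa [show Nat.gcd s (ℓ ^ n) = 1 from Nat.Coprime.pow_right n ((Nat.coprime_primes hs.out hl.out).2 hℓs.symm),
      pow_one] at h
  have hiter : ∀ r ∈ R, t * (r⁻¹ * (t * r * t⁻¹)) = (r⁻¹ * (t * r * t⁻¹)) * t → t * r = r * t := by
    intro r hr hd
    set d := r⁻¹ * (t * r * t⁻¹) with hddef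
    have hstep : ∀ i : ℕ, t ^ i * r * (t ^ i)⁻¹ = r * d ^ i := by
      intro i
      induction i with
      | zero => simp
      | succ i ihi =>
        have hc : t * d ^ i * t⁻¹ = d ^ i := by
          rw [mul_inv_eq_iff_eq_mul]; exact (Commute.pow_right hd i).eq
        calc t ^ (i + 1) * r * (t ^ (i + 1))⁻¹ = t * (t ^ i * r * (t ^ i)⁻¹) * t⁻¹ := by
              rw [pow_succ']; group
          _ = (t * r * t⁻¹) * (t * d ^ i * t⁻¹) := by rw [ihi, hconj]
          _ = r * d ^ (i + 1) := by rw [hc, show t * r * t⁻¹ = r * d by rw [hddef, mul_inv_cancel_left],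
              mul_assoc, ← pow_succ']
    have hds : d ^ s = 1 := by
      have := hstep s
      rw [ht, one_mul, inv_one, mul_one, left_eq_mul] at this
      exact this
    have hd1 := hkill d (R.mul_mem (R.inv_mem hr) (hnorm r hr)) hds
    rw [hddef, inv_mul_eq_one, eq_mul_inv_iff_mul_eq] at hd1
    exact hd1.symm
  -- proper invariant normal subgroups are central
  have hcentral : ∀ B : Subgroup 𝕌, B ≤ R → B ≠ R → (∀ b ∈ B, t * b * t⁻¹ ∈ B) →
      (∀ r ∈ R, ∀ b ∈ B, r * b * r⁻¹ ∈ B) → ∀ b ∈ B, ∀ r ∈ R, r * b = b * r := by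
    intro B hBle hBne hBt hBn b hb r hr
    have hfix := hsub B hBle hBne hBt
    have htb : ∀ b ∈ B, t * b * t⁻¹ = b := fun b hb => mul_inv_eq_iff_eq_mul.2 (hfix b hb)
    let C : Subgroup 𝕌 :=
      { carrier := {x | x ∈ R ∧ ∀ b ∈ B, x * b = b * x}
        one_mem' := ⟨R.one_mem, fun b _ => by simp⟩
        mul_mem' := fun {x y} hx hy => ⟨R.mul_mem hx.1 hy.1, fun b hb =>
          (Commute.mul_left (hx.2 b hb) (hy.2 b hb)).eq⟩
        inv_mem' := fun {x} hx => ⟨R.inv_mem hx.1, fun b hb => (Commute.inv_left (hx.2 b hb)).eq⟩ }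
    by_contra hrb
    have hCne : C ≠ R := fun e => hrb ((show r ∈ C by rw [e]; exact hr).2 b hb)
    have hC := hsub C (fun x hx => hx.1) hCne fun x hx => ⟨hnorm x hx.1, fun b hb => by
      have e := congrArg (fun z => t * z * t⁻¹) (hx.2 b hb)
      simp only [hconj, htb b hb] at e
      exact e⟩
    refine hnot fun x hx => hiter x hx (hC _ ⟨R.mul_mem (R.inv_mem hx) (hnorm x hx), fun b hb => ?_⟩)
    have h1 : (t * x * t⁻¹) * b * (t * x * t⁻¹)⁻¹ = x * b * x⁻¹ := by
      conv_lhs => rw [← htb b hb]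
      rw [show (t * x * t⁻¹) * (t * b * t⁻¹) * (t * x * t⁻¹)⁻¹ = t * (x * b * x⁻¹) * t⁻¹ by group]
      exact htb _ (hBn x hx b hb)
    calc x⁻¹ * (t * x * t⁻¹) * b = x⁻¹ * ((t * x * t⁻¹) * b * (t * x * t⁻¹)⁻¹) * (t * x * t⁻¹) := by group
      _ = x⁻¹ * (x * b * x⁻¹) * (t * x * t⁻¹) := by rw [h1]
      _ = b * (x⁻¹ * (t * x * t⁻¹)) := by group
  -- the abelian case and the centre
  let A : Subgroup 𝕌 :=
    { carrier := {x | x ∈ R ∧ ∀ y ∈ R, x * y = y * x}
      one_mem' := ⟨R.one_mem, fun b _ => by simp⟩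
      mul_mem' := fun {x y} hx hy => ⟨R.mul_mem hx.1 hy.1, fun b hb =>
        (Commute.mul_left (hx.2 b hb) (hy.2 b hb)).eq⟩
      inv_mem' := fun {x} hx => ⟨R.inv_mem hx.1, fun b hb => (Commute.inv_left (hx.2 b hb)).eq⟩ }
  have hAle : A ≤ R := fun x hx => hx.1
  have htR : ∀ y ∈ R, t⁻¹ * y * t ∈ R := by
    intro y hy
    let f : R → R := fun z => ⟨t * z * t⁻¹, hnorm z z.2⟩
    have hf : Function.Injective f := fun a b h => Subtype.ext (by simpa [f] using congrArg Subtype.val h)
    obtain ⟨z, hz⟩ := Finite.injective_iff_surjective.1 hf ⟨y, hy⟩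
    have hz' : t * (z : 𝕌) * t⁻¹ = y := congrArg Subtype.val hz
    rw [← hz', show t⁻¹ * (t * (z : 𝕌) * t⁻¹) * t = z by group]
    exact z.2
  have hAt : ∀ a ∈ A, t * a * t⁻¹ ∈ A := fun a ha => ⟨hnorm a ha.1, fun y hy => by
    have e := congrArg (fun z => t * z * t⁻¹) (ha.2 _ (htR y hy))
    simp only [hconj] at e
    simpa [mul_assoc] using e⟩
  have hAcomm : IsMulCommutative A := ⟨⟨fun a b => Subtype.ext (a.2.2 b b.2.1)⟩⟩
  obtain ⟨Q, hQ2, hQpow⟩ := LinearElements.exists_pow_eq_self hAcomm (hcopF A hAle)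
  set E := LinearElements.spanAlgebra A with hE
  have hEcomm : ∀ a ∈ E, ∀ b ∈ E, a * b = b * a := fun a ha b hb =>
    LinearElements.spanAlgebra_comm hAcomm ha hb
  have hEred : ∀ a ∈ E, ∀ k : ℕ, a ^ k = 0 → a = 0 := by
    intro a ha k hk
    have h1 : ∀ j, a ^ Q ^ j = a := fun j => by
      induction j with
      | zero => rw [pow_zero, pow_one]
      | succ j hj => rw [pow_succ, pow_mul, hj, hQpow a ha]
    obtain ⟨j, hj⟩ : ∃ j, k ≤ Q ^ j := ⟨k, (Nat.lt_pow_self hQ2).le⟩
    rw [← h1 j, ← Nat.add_sub_cancel' hj, pow_add, hk, zero_mul]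
  have hEt : ∀ a ∈ E, (t : Module.End F V) * a * ((t⁻¹ : 𝕌) : Module.End F V) ∈ E := by
    intro a ha
    induction ha using Algebra.adjoin_induction with
    | mem x hx =>
      obtain ⟨u, hu, rfl⟩ := hx
      rw [← Units.val_mul, ← Units.val_mul]
      exact LinearElements.mem_spanAlgebra A (hAt u hu)
    | algebraMap r =>
      rw [← Algebra.commutes r (t : Module.End F V), mul_assoc, Units.mul_inv, mul_one]
      exact E.algebraMap_mem r
    | add x y _ _ hx hy => rw [mul_add, add_mul]; exact E.add_mem hx hy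
    | mul x y _ _ hx hy =>
      have := E.mul_mem hx hy
      rwa [show (t : Module.End F V) * x * ((t⁻¹ : 𝕌) : Module.End F V)
        * ((t : Module.End F V) * y * ((t⁻¹ : 𝕌) : Module.End F V))
        = (t : Module.End F V) * x * (((t⁻¹ : 𝕌) : Module.End F V) * (t : Module.End F V)) * y
          * ((t⁻¹ : 𝕌) : Module.End F V) by simp only [mul_assoc], Units.inv_mul, mul_one,
        mul_assoc (t : Module.End F V) x y] at this
  have hEfix := commute_of_algebra (F := F) (V := V) hn hEcomm hEred ht hEt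
  have hAfix : ∀ a ∈ A, t * a = a * t := fun a ha =>
    Units.ext (by simpa using hEfix _ (LinearElements.mem_spanAlgebra A ha))
  have hAne : A ≠ R := fun e => hnot fun r hr => hAfix r (by rw [e]; exact hr)
  have hBA : ∀ B : Subgroup 𝕌, B ≤ R → B ≠ R → (∀ b ∈ B, t * b * t⁻¹ ∈ B) →
      (∀ r ∈ R, ∀ b ∈ B, r * b * r⁻¹ ∈ B) → B ≤ A :=
    fun B h1 h2 h3 h4 b hb => ⟨h1 hb, fun r hr => (hcentral B h1 h2 h3 h4 b hb r hr).symm⟩
  -- the quotient by the centre
  set Z := Subgroup.center R with hZdef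
  have hZA : ∀ r : R, r ∈ Z ↔ (r : 𝕌) ∈ A := by
    intro r
    rw [hZdef, Subgroup.mem_center_iff]
    exact ⟨fun h => ⟨r.2, fun y hy => (congrArg Subtype.val (h ⟨y, hy⟩)).symm⟩,
      fun h y => Subtype.ext (h.2 y y.2).symm⟩
  let φ : R →* R :=
    { toFun := fun r => ⟨t * r * t⁻¹, hnorm r r.2⟩
      map_one' := Subtype.ext (by simp)
      map_mul' := fun a b => Subtype.ext (hconj a b) }
  have hφZ : Z ≤ Z.comap φ := fun r hr => (hZA _).2 (hAt _ ((hZA r).1 hr))
  let φq : R ⧸ Z →* R ⧸ Z := QuotientGroup.map Z Z φ hφZ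
  have hquot : ∀ S : Subgroup (R ⧸ Z), S.Normal → (∀ x ∈ S, φq x ∈ S) → S = ⊥ ∨ S = ⊤ := by
    intro S hSn hSt
    set B := (S.comap (QuotientGroup.mk' Z)).map R.subtype with hB
    have hmemB : ∀ r : R, (r : 𝕌) ∈ B ↔ QuotientGroup.mk' Z r ∈ S := fun r => by
      rw [hB, Subgroup.mem_map]
      exact ⟨fun ⟨z, hz, hzr⟩ => by rwa [Subtype.ext hzr] at hz, fun h => ⟨r, h, rfl⟩⟩
    have hBle : B ≤ R := Subgroup.map_subtype_le _
    by_cases hBR : B = R
    · refine Or.inr (Subgroup.eq_top_iff' S |>.2 fun x => ?_)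
      obtain ⟨r, rfl⟩ := QuotientGroup.mk'_surjective Z x
      exact (hmemB r).1 (by rw [hBR]; exact r.2)
    · refine Or.inl ((Subgroup.eq_bot_iff_forall S).2 fun x hx => ?_)
      obtain ⟨r, rfl⟩ := QuotientGroup.mk'_surjective Z x
      have hr := hBA B hBle hBR
        (fun b hb => by
          have : φq (QuotientGroup.mk' Z ⟨b, hBle hb⟩) ∈ S := hSt _ ((hmemB ⟨b, hBle hb⟩).1 hb)
          exact (hmemB (φ ⟨b, hBle hb⟩)).2 this)
        (fun g hg b hb => by
          have := hSn.conj_mem _ ((hmemB ⟨b, hBle hb⟩).1 hb) (QuotientGroup.mk' Z ⟨g, hg⟩)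
          exact (hmemB (⟨g, hg⟩ * ⟨b, hBle hb⟩ * ⟨g, hg⟩⁻¹)).2 (by rw [map_mul, map_mul, map_inv]; exact this))
        ((hmemB r).2 hx)
      exact (QuotientGroup.eq_one_iff r).2 ((hZA r).2 hr)
  have hφqsurj : Function.Surjective φq := by
    refine fun x => ?_
    obtain ⟨r, rfl⟩ := QuotientGroup.mk'_surjective Z x
    exact ⟨QuotientGroup.mk' Z ⟨t⁻¹ * r * t, htR r r.2⟩, congrArg (QuotientGroup.mk' Z)
      (Subtype.ext (show t * (t⁻¹ * (r : 𝕌) * t) * t⁻¹ = r by group))⟩
  have hRq : IsPGroup ℓ (R ⧸ Z) := hR.to_quotient Z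
  have hntriv : Nontrivial (R ⧸ Z) := by
    by_contra h
    rw [not_nontrivial_iff_subsingleton] at h
    refine hAne (le_antisymm hAle fun r hr => (hZA ⟨r, hr⟩).1 ?_)
    exact (QuotientGroup.eq_one_iff _).1 (Subsingleton.elim _ _)
  -- abelian
  have habq : ∀ x y : R ⧸ Z, x * y = y * x := by
    rcases hquot (Subgroup.center (R ⧸ Z)) inferInstance (fun x hx => by
      rw [Subgroup.mem_center_iff] at hx ⊢
      intro g
      obtain ⟨g', rfl⟩ := hφqsurj g
      rw [← map_mul, ← map_mul, hx]) with h | h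
    · have := IsPGroup.bot_lt_center hRq
      rw [h] at this
      exact absurd this (lt_irrefl _)
    · intro x y
      exact (Subgroup.mem_center_iff.1 (h ▸ Subgroup.mem_top y : y ∈ Subgroup.center _) x)
  -- exponent
  have hexpq : ∀ x : R ⧸ Z, x ^ ℓ = 1 := by
    let π : R ⧸ Z →* R ⧸ Z :=
      { toFun := fun x => x ^ ℓ
        map_one' := one_pow _
        map_mul' := fun a b => (show Commute a b from habq a b).mul_pow ℓ }
    have hn' : π.range.Normal := ⟨fun x hx g => by rwa [habq g x, mul_inv_cancel_right]⟩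
    rcases hquot π.range hn' (by rintro _ ⟨x, rfl⟩; exact ⟨φq x, (map_pow φq x ℓ).symm⟩) with h | h
    · intro x
      exact (Subgroup.eq_bot_iff_forall _).1 h _ ⟨x, rfl⟩
    · exfalso
      obtain ⟨n, hn⟩ := IsPGroup.iff_card.1 hRq
      have hne0 : n ≠ 0 := fun e => by
        have := Finite.one_lt_card_iff_nontrivial.2 hntriv
        rw [hn, e, pow_zero] at this
        exact lt_irrefl _ this
      obtain ⟨g, hg⟩ := exists_prime_orderOf_dvd_card' ℓ (G := R ⧸ Z) (hn ▸ dvd_pow_self ℓ hne0)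
      have hg1 : g = 1 := (Finite.injective_iff_surjective.2 (MonoidHom.range_eq_top.1 h))
        (show π g = π 1 by rw [map_one]; show g ^ ℓ = 1; rw [← hg, pow_orderOf_eq_one])
      rw [hg1, orderOf_one] at hg
      exact hl.out.one_lt.ne hg
  -- no fixed points on the quotient
  have hfpf : ∀ x : R ⧸ Z, φq x = x → x = 1 := by
    let S : Subgroup (R ⧸ Z) :=
      { carrier := {x | φq x = x}
        one_mem' := map_one φq
        mul_mem' := fun {a b} (ha : φq a = a) (hb : φq b = b) => by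
          show φq (a * b) = a * b; rw [map_mul, ha, hb]
        inv_mem' := fun {a} (ha : φq a = a) => by show φq a⁻¹ = a⁻¹; rw [map_inv, ha] }
    have hSn : S.Normal := ⟨fun x hx g => by rwa [habq g x, mul_inv_cancel_right]⟩
    rcases hquot S hSn (fun x hx => by
      have hx' : φq x = x := hx
      show φq (φq x) = φq x
      rw [hx', hx']) with h | h
    · intro x hx
      exact (Subgroup.eq_bot_iff_forall _).1 h x hx
    · exfalso
      refine hnot fun r hr => hiter r hr (hAfix _ ?_)
      have hfix : φq (QuotientGroup.mk' Z ⟨r, hr⟩) = QuotientGroup.mk' Z ⟨r, hr⟩ :=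
        (h ▸ Subgroup.mem_top _ : QuotientGroup.mk' Z ⟨r, hr⟩ ∈ S)
      exact (hZA (⟨r, hr⟩⁻¹ * φ ⟨r, hr⟩)).1 ((QuotientGroup.eq (s := Z) (a := (⟨r, hr⟩ : R)) (b := φ ⟨r, hr⟩)).1 hfix.symm)
  have hmodS : Nat.card (R ⧸ Z) ≡ 1 [MOD s] := by
    let _ := Fintype.ofFinite (R ⧸ Z)
    let f : Function.End (R ⧸ Z) := fun x => φq x
    have hit : ∀ (i : ℕ) (r : R), ((⇑φq)^[i]) (QuotientGroup.mk' Z r)
        = QuotientGroup.mk' Z ((φ : R → R)^[i] r) := by
      intro i
      induction i with
      | zero => intro r; rfl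
      | succ i hi => intro r; rw [Function.iterate_succ_apply', Function.iterate_succ_apply', hi]; rfl
    have hit2 : ∀ (i : ℕ) (r : R), (((φ : R → R)^[i] r : R) : 𝕌) = t ^ i * r * (t ^ i)⁻¹ := by
      intro i
      induction i with
      | zero => intro r; simp
      | succ i hi =>
        intro r
        rw [Function.iterate_succ_apply']
        show t * _ * t⁻¹ = _
        rw [hi, pow_succ']
        group
    have hpow : ∀ (i : ℕ) (x : R ⧸ Z), (f ^ i) x = (⇑φq)^[i] x := by
      intro i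
      induction i with
      | zero => intro x; rfl
      | succ i hi => intro x; rw [pow_succ', Function.iterate_succ_apply', ← hi]; rfl
    have hf : f ^ s ^ 1 = 1 := by
      rw [pow_one]
      funext x
      obtain ⟨r, rfl⟩ := QuotientGroup.mk'_surjective Z x
      show (f ^ s) (QuotientGroup.mk' Z r) = QuotientGroup.mk' Z r
      rw [hpow, hit]
      congr 1
      exact Subtype.ext (by rw [hit2, ht]; simp)
    have := Equiv.Perm.card_fixedPoints_modEq (p := s) hf
    rw [Nat.card_eq_fintype_card]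
    refine this.trans ?_
    have hone : Fintype.card (Function.fixedPoints f) = 1 := Fintype.card_eq_one_iff.2
      ⟨⟨1, map_one φq⟩, fun x => Subtype.ext (hfpf _ x.2)⟩
    rw [hone]
  -- the pairing
  let comm : R → R → 𝕌 := fun r a => (r : 𝕌) * a * (r : 𝕌)⁻¹ * (a : 𝕌)⁻¹
  have hcommA : ∀ r a, comm r a ∈ A := by
    intro r a
    have h1 : QuotientGroup.mk' Z (r * a * r⁻¹ * a⁻¹) = 1 := by
      rw [map_mul, map_mul, map_mul, map_inv, map_inv, habq (QuotientGroup.mk' Z r) (QuotientGroup.mk' Z a),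
        mul_inv_cancel_right, mul_inv_cancel]
    exact (hZA (r * a * r⁻¹ * a⁻¹)).1 ((QuotientGroup.eq_one_iff _).1 h1)
  have hmulL : ∀ r r' a, comm (r * r') a = comm r a * comm r' a := by
    intro r r' a
    have hc : (r : 𝕌) * comm r' a = comm r' a * r := ((hcommA r' a).2 r r.2).symm
    have hc2 := ((hcommA r' a).2 _ (hcommA r a).1).symm
    calc comm (r * r') a = (r : 𝕌) * comm r' a * ((a : 𝕌) * (r : 𝕌)⁻¹ * (a : 𝕌)⁻¹) := by
          simp only [comm, Subgroup.coe_mul]; group
      _ = comm r' a * comm r a := by rw [hc]; simp only [comm]; group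
      _ = _ := hc2.symm
  have hmulR : ∀ r a a', comm r (a * a') = comm r a * comm r a' := by
    intro r a a'
    have hc : (a : 𝕌) * comm r a' = comm r a' * a := ((hcommA r a').2 a a.2).symm
    calc comm r (a * a') = (r : 𝕌) * a * (r : 𝕌)⁻¹ * (comm r a' * (a : 𝕌)⁻¹) := by
          simp only [comm, Subgroup.coe_mul]; group
      _ = (r : 𝕌) * a * (r : 𝕌)⁻¹ * ((a : 𝕌)⁻¹ * comm r a') := by
          congr 1
          rw [eq_inv_mul_iff_mul_eq, ← mul_assoc, hc, mul_inv_cancel_right]
      _ = _ := by simp only [comm]; group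
  have hcz : ∀ z a : R, z ∈ Z → comm z a = 1 := fun z a hz => by
    simp only [comm]
    rw [((hZA z).1 hz).2 a a.2]
    group
  have hcz' : ∀ r z : R, z ∈ Z → comm r z = 1 := fun r z hz => by
    simp only [comm]
    rw [← ((hZA z).1 hz).2 r r.2]
    group
  let _ : CommRing E := commRingOf hEcomm
  have : Finite E := Subtype.finite
  have : IsReduced E := ⟨fun a ⟨k, hk⟩ => Subtype.ext (hEred a a.2 k (by
    have := congrArg Subtype.val hk
    simpa using this))⟩
  let val : R → R → E := fun r a => ⟨_, LinearElements.mem_spanAlgebra A (hcommA r a)⟩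
  -- a residue field in which the commutators do not all die
  obtain ⟨m, hm, hbad⟩ : ∃ m : Ideal E, m.IsMaximal ∧ ∃ r a, val r a - 1 ∉ m := by
    by_contra! hall
    refine hAne (le_antisymm hAle fun r hr => ⟨hr, fun a ha => ?_⟩)
    have h0 : val ⟨r, hr⟩ ⟨a, ha⟩ - 1 = 0 := by
      refine IsReduced.eq_zero _ (mem_nilradical.1 ?_)
      rw [nilradical_eq_sInf, Submodule.mem_sInf]
      intro p hp
      have : Ideal.IsPrime p := hp
      have : Finite (E ⧸ p) := Quotient.finite _
      exact hall p (Ideal.Quotient.maximal_of_isField _ (Finite.isField_of_domain (E ⧸ p))) _ _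
    have h1 : r * a * r⁻¹ * a⁻¹ = 1 := Units.ext (congrArg Subtype.val (sub_eq_zero.1 h0))
    rwa [mul_inv_eq_one, mul_inv_eq_iff_eq_mul] at h1
  have : IsDomain (E ⧸ m) := Ideal.Quotient.isDomain m
  have : Nontrivial (E ⧸ m) := Ideal.Quotient.nontrivial_iff.2 hm.ne_top
  have : Finite (E ⧸ m) := Quotient.finite _
  let P : R → R → E ⧸ m := fun r a => Ideal.Quotient.mk m (val r a)
  have hPL : ∀ r r' a, P (r * r') a = P r a * P r' a := fun r r' a => by
    simp only [P, ← map_mul]
    congr 1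
    exact Subtype.ext (by simp [val, hmulL])
  have hPR : ∀ r a a', P r (a * a') = P r a * P r a' := fun r a a' => by
    simp only [P, ← map_mul]
    congr 1
    exact Subtype.ext (by simp [val, hmulR])
  have hPz : ∀ z a, z ∈ Z → P z a = 1 := fun z a hz => by
    simp only [P]
    rw [show val z a = 1 from Subtype.ext (by simp [val, hcz z a hz]), map_one]
  have hPz' : ∀ r z, z ∈ Z → P r z = 1 := fun r z hz => by
    simp only [P]
    rw [show val r z = 1 from Subtype.ext (by simp [val, hcz' r z hz]), map_one]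
  have hwd : ∀ r r' a a' : R, QuotientGroup.mk' Z r = QuotientGroup.mk' Z r' →
      QuotientGroup.mk' Z a = QuotientGroup.mk' Z a' → P r a = P r' a' := by
    intro r r' a a' h1 h2
    rw [show r' = r * (r⁻¹ * r') by group, show a' = a * (a⁻¹ * a') by group, hPL,
      hPz _ _ (QuotientGroup.eq.1 h1), mul_one, hPR, hPz' _ _ (QuotientGroup.eq.1 h2), mul_one]
  choose sec hsec using QuotientGroup.mk'_surjective Z
  let B : R ⧸ Z → R ⧸ Z → E ⧸ m := fun x y => P (sec x) (sec y)
  have hB : ∀ r a, B (QuotientGroup.mk' Z r) (QuotientGroup.mk' Z a) = P r a := fun r a =>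
    hwd _ _ _ _ (hsec _) (hsec _)
  have hBL : ∀ x x' y, B (x * x') y = B x y * B x' y := fun x x' y => by
    show P _ _ = P _ _ * P _ _
    rw [← hPL]
    exact hwd _ _ _ _ (by rw [hsec, map_mul, hsec, hsec]) rfl
  have hBR : ∀ x y y', B x (y * y') = B x y * B x y' := fun x y y' => by
    show P _ _ = P _ _ * P _ _
    rw [← hPR]
    exact hwd _ _ _ _ rfl (by rw [hsec, map_mul, hsec, hsec])
  have hB1 : ∀ y, B 1 y = 1 := fun y => hPz _ _ ((QuotientGroup.eq_one_iff _).1 (hsec 1))
  have halt : ∀ x, B x x = 1 := fun x => by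
    show Ideal.Quotient.mk m _ = 1
    rw [show val (sec x) (sec x) = 1 from Subtype.ext (by simp [val, comm]), map_one]
  have hnd : ∀ x : R ⧸ Z, x ≠ 1 → ∃ y, B x y ≠ 1 := by
    let S : Subgroup (R ⧸ Z) :=
      { carrier := {x | ∀ y, B x y = 1}
        one_mem' := hB1
        mul_mem' := fun {a b} ha hb y => by rw [hBL, ha, hb, one_mul]
        inv_mem' := fun {a} ha y => by
          have := hBL a a⁻¹ y
          rwa [mul_inv_cancel, hB1, ha, one_mul, eq_comm] at this }
    have hSn : S.Normal := ⟨fun x hx g => by rwa [habq g x, mul_inv_cancel_right]⟩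
    have hSt : ∀ x ∈ S, φq x ∈ S := by
      intro x hx y
      obtain ⟨y', rfl⟩ := hφqsurj y
      obtain ⟨r, rfl⟩ := QuotientGroup.mk'_surjective Z x
      obtain ⟨a, rfl⟩ := QuotientGroup.mk'_surjective Z y'
      rw [show φq (QuotientGroup.mk' Z r) = QuotientGroup.mk' Z (φ r) from rfl,
        show φq (QuotientGroup.mk' Z a) = QuotientGroup.mk' Z (φ a) from rfl, hB]
      have h1 := hx (QuotientGroup.mk' Z a)
      rw [hB] at h1
      rw [← h1]
      refine congrArg (Ideal.Quotient.mk m) (Subtype.ext ?_)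
      show ((comm (φ r) (φ a) : 𝕌) : Module.End F V) = ((comm r a : 𝕌) : Module.End F V)
      congr 1
      calc comm (φ r) (φ a) = t * comm r a * t⁻¹ := by
            show (t * (r : 𝕌) * t⁻¹) * (t * a * t⁻¹) * (t * r * t⁻¹)⁻¹ * (t * a * t⁻¹)⁻¹ = _
            simp only [comm]; group
        _ = comm r a := mul_inv_eq_iff_eq_mul.2 (hAfix _ (hcommA r a))
    rcases hquot S hSn hSt with h | h
    · intro x hx
      by_contra hc
      push Not at hc
      exact hx ((Subgroup.eq_bot_iff_forall _).1 h x hc)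
    · obtain ⟨r, a, hra⟩ := hbad
      exfalso
      refine hra ?_
      rw [← Ideal.Quotient.eq_zero_iff_mem, map_sub, map_one, sub_eq_zero]
      have h1 : QuotientGroup.mk' Z r ∈ S := by rw [h]; exact Subgroup.mem_top _
      exact (hB r a).symm.trans (h1 _)
  obtain ⟨k, hk⟩ := exists_card_eq_sq B hB1 hBL hBR halt hexpq hnd
  -- the coset representatives are independent
  obtain ⟨e, hem, -, hec, -⟩ := exists_idem m (hm := hm)
  have hee : ∀ r : R, (e : Module.End F V) * ((r : 𝕌) : Module.End F V) = ((r : 𝕌) : Module.End F V) * e := by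
    intro r
    have hgen : ∀ x ∈ E, x * ((r : 𝕌) : Module.End F V) = ((r : 𝕌) : Module.End F V) * x := by
      intro x hx
      induction hx using Algebra.adjoin_induction with
      | mem x hx =>
        obtain ⟨u, hu, rfl⟩ := hx
        exact congrArg Units.val (hu.2 r r.2)
      | algebraMap c => exact Algebra.commutes c _
      | add x y _ _ hx hy => rw [add_mul, mul_add, hx, hy]
      | mul x y _ _ hx hy => rw [mul_assoc, hy, ← mul_assoc, hx, mul_assoc]
    exact hgen _ e.2
  let _ := Fintype.ofFinite (R ⧸ Z)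
  let T : R ⧸ Z → Module.End F V := fun x => ((sec x : 𝕌) : Module.End F V)
  have hindE : ∀ c : R ⧸ Z → E, ∑ x, ((e * c x : E) : Module.End F V) * T x = 0 → ∀ x, c x ∈ m := by
    intro c
    induction hS : (Finset.univ.filter fun x => c x ∉ m).card using Nat.strong_induction_on generalizing c with
    | _ M ihM =>
    intro hsum
    by_contra! hne
    obtain ⟨x₀, hx₀⟩ := hne
    have hkeep : ∀ x, c x ∈ m → ((e * c x : E) : Module.End F V) = 0 := fun x hx => by
      rw [(hec _).2 hx]; rfl
    by_cases huniq : ∀ x, x ≠ x₀ → c x ∈ m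
    · rw [Finset.sum_eq_single x₀ (fun x _ hx => by rw [hkeep x (huniq x hx), zero_mul])
        (fun h => absurd (Finset.mem_univ x₀) h)] at hsum
      refine hx₀ ((hec _).1 (Subtype.ext ?_))
      exact (Units.mul_left_eq_zero (sec x₀ : 𝕌)).1 hsum
    · push Not at huniq
      obtain ⟨x₁, hx₁, hc₁⟩ := huniq
      obtain ⟨y, hy⟩ := hnd (x₁ * x₀⁻¹) (fun h => hx₁ (mul_inv_eq_one.1 h))
      set a := sec y
      let c' : R ⧸ Z → E := fun x => c x * (val a (sec x) - val a (sec x₀))
      have hmove : ∀ r : R, ((a : 𝕌) : Module.End F V) * ((r : 𝕌) : Module.End F V)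
          * (((a : 𝕌)⁻¹ : 𝕌) : Module.End F V) = (val a r : Module.End F V) * ((r : 𝕌) : Module.End F V) := by
        intro r
        simp only [val]
        rw [← Units.val_mul, ← Units.val_mul, ← Units.val_mul]
        congr 1
        simp only [comm]
        group
      have hsum' : ∑ x, ((e * c' x : E) : Module.End F V) * T x = 0 := by
        have hcent : ∀ (z : E), ((a : 𝕌) : Module.End F V) * (z : Module.End F V)
            = (z : Module.End F V) * ((a : 𝕌) : Module.End F V) := by
          rintro ⟨z, hz⟩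
          induction hz using Algebra.adjoin_induction with
          | mem x hx =>
            obtain ⟨u, hu, rfl⟩ := hx
            exact (congrArg Units.val (hu.2 a a.2)).symm
          | algebraMap c => exact (Algebra.commutes c _).symm
          | add x y _ _ hx hy => rw [add_mul, mul_add, hx, hy]
          | mul x y _ _ hx hy => rw [← mul_assoc, hx, mul_assoc, hy, ← mul_assoc]
        have h1 := congrArg (fun z => ((a : 𝕌) : Module.End F V) * z * (((a : 𝕌)⁻¹ : 𝕌) : Module.End F V)) hsum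
        simp only [Finset.mul_sum, Finset.sum_mul, mul_zero, zero_mul] at h1
        have h2 : ∀ x, ((a : 𝕌) : Module.End F V) * (((e * c x : E) : Module.End F V) * T x)
            * (((a : 𝕌)⁻¹ : 𝕌) : Module.End F V)
            = ((e * c x : E) : Module.End F V) * ((val a (sec x) : Module.End F V) * T x) := fun x => by
          rw [← mul_assoc, hcent, mul_assoc, mul_assoc, ← mul_assoc ((a : 𝕌) : Module.End F V), hmove]
        rw [Finset.sum_congr rfl fun x _ => h2 x] at h1
        have h3 := congrArg (fun z => (val a (sec x₀) : Module.End F V) * z) hsum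
        simp only [Finset.mul_sum, mul_zero] at h3
        rw [← sub_eq_zero.2 (h1.trans h3.symm), ← Finset.sum_sub_distrib]
        refine Finset.sum_congr rfl fun x _ => ?_
        rw [← mul_assoc, ← mul_assoc, ← mul_assoc, ← Subalgebra.coe_mul, ← Subalgebra.coe_mul, ← sub_mul]
        congr 1
        rw [← Subalgebra.coe_sub]
        congr 1
        ring
      have hlt : (Finset.univ.filter fun x => c' x ∉ m).card < M := by
        rw [← hS]
        refine Finset.card_lt_card (Finset.ssubset_iff_subset_ne.2 ⟨fun x hx => ?_, fun h => ?_⟩)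
        · simp only [Finset.mem_filter, Finset.mem_univ, true_and] at hx ⊢
          exact fun hh => hx (Ideal.mul_mem_right _ _ hh)
        · have : x₀ ∈ Finset.univ.filter fun x => c' x ∉ m := by rw [h]; simp [hx₀]
          simp [c'] at this
      have hz := ihM _ hlt c' rfl hsum' x₁
      have hmem : val a (sec x₁) - val a (sec x₀) ∈ m := (hm.isPrime.mem_or_mem hz).resolve_left hc₁
      rw [← Ideal.Quotient.eq_zero_iff_mem, map_sub, sub_eq_zero] at hmem
      have h4 : B y x₁ = B y x₀ := hmem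
      have hskew : ∀ u v, B u v * B v u = 1 := fun u v => by
        have h := halt (u * v)
        rwa [hBL, hBR, hBR, halt, halt, one_mul, mul_one] at h
      have h5 : B x₁ y = B x₀ y := by
        calc B x₁ y = B x₁ y * (B y x₀ * B x₀ y) := by rw [hskew, mul_one]
          _ = B x₁ y * B y x₁ * B x₀ y := by rw [h4]; ring
          _ = B x₀ y := by rw [hskew, one_mul]
      refine hy ?_
      have h6 := hBL (x₁ * x₀⁻¹) x₀ y
      rw [inv_mul_cancel_right, h5] at h6
      have hne : B x₀ y ≠ 0 := fun h => zero_ne_one (α := E ⧸ m) (by rw [← hskew x₀ y, h, zero_mul])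
      exact (mul_eq_right₀ hne).1 h6.symm
  have hLI : LinearIndependent F fun x => (e : Module.End F V) * T x := by
    rw [Fintype.linearIndependent_iff]
    intro c hc x
    have h := hindE (fun x => algebraMap F E (c x)) (by
      rw [← hc]
      refine Finset.sum_congr rfl fun x _ => ?_
      rw [Subalgebra.coe_mul, Subalgebra.coe_algebraMap, ← Algebra.commutes, mul_assoc, ← Algebra.smul_def]) x
    by_contra hne
    refine hm.ne_top (m.eq_top_of_isUnit_mem h (IsUnit.map _ (isUnit_iff_ne_zero.2 hne)))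
  have hdim := hLI.fintype_card_le_finrank
  rw [Module.finrank_linearMap, ← Nat.card_eq_fintype_card, hk] at hdim
  have hle : ℓ ^ (2 * k) ≤ finrank F V * finrank F V := hdim
  have hk0 : k ≠ 0 := fun e0 => by
    have := Finite.one_lt_card_iff_nontrivial.2 hntriv
    rw [hk, e0, mul_zero, pow_zero] at this
    exact lt_irrefl _ this
  refine no_small_square hl.out hk0 hle hs.out hn hpow ?_
  rw [hk] at hmodS
  exact (Nat.modEq_iff_dvd' (Nat.one_le_pow _ _ hl.out.pos)).1 hmodS.symm

/-- In dimension at most six, orders from seven on will do. -/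
theorem commute_of_normalises {s ℓ : ℕ} [hs : Fact s.Prime] [hl : Fact ℓ.Prime] (h7 : 7 ≤ s)
    (hn : finrank F V ≤ 6) (hℓs : ℓ ≠ s) (hℓF : (ℓ : F) ≠ 0) {t : 𝕌} (ht : t ^ s = 1) {R : Subgroup 𝕌}
    (hR : IsPGroup ℓ R) (hnorm : ∀ r ∈ R, t * r * t⁻¹ ∈ R) : ∀ r ∈ R, t * r = r * t := by
  refine commute_of_normalises_lt (by omega) (fun j hj => ?_) hℓs hℓF ht hR hnorm
  rcases le_or_gt j 2 with h | h
  · interval_cases j <;> simp only [pow_zero, pow_one, Nat.reducePow] at hj <;> omega
  · have : 2 ^ 3 ≤ 2 ^ j := Nat.pow_le_pow_right two_pos h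
    omega

end CfsgLib.OrthCubic
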