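import Cfsg.Agent.OrthCubic.Involution
import Cfsg.Agent.OrthCubic.Radical
import Cfsg.Agent.OrthCubic.SmallGroup
import Cfsg.Agent.LocalEven50.Isolated

/-!
# Centralisers of involutions normalise the field

The pointwise fixer of the rest of a hyperbolic pair is the torus: its Sylow subgroup for a primitive prime of
`q³ - 1` is central in its normaliser, and the normal complement is centralised by the torus.
-/

set_option autoImplicit false
set_option linter.unusedSectionVars false
set_option maxHeartbeats 1000000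

namespace CfsgLib.OrthCubic

open Matrix Module CfsgLib.Spinor CfsgLib.OrthMax

variable {F : Type*} [Field F] [Fintype F] {ι : Type} [Fintype ι] [DecidableEq ι]
  {Q : QuadraticForm F (ι → F)}
variable {K : Type*} [Field K] [Algebra F K] [Module K (ι → F)] [IsScalarTower F K (ι → F)]

namespace Cubic

variable (c : Cubic Q K)
include c

/-- Members mapping a singular line to a singular line normalise the field. -/
def LineNorm (M : Subgroup (Isom Q)) : Prop :=
  ∀ x ∈ M, ∀ u₁ u₂ : ι → F, c.h u₁ u₁ = 0 → u₁ ≠ 0 → c.h u₂ u₂ = 0 →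
    (∀ k : K, ∃ l : K, mat Q x *ᵥ (k • u₁) = l • u₂) → Norm K x

/-- A prime dividing `q² + q + 1` and not `q - 1`, at least seven, with an element of that order. -/
theorem exists_root_of_unity : ∃ (s : ℕ) (k : K), s.Prime ∧ 7 ≤ s ∧ orderOf k = s ∧ (s : F) ≠ 0 ∧
    ∀ t : F, algebraMap F K t ≠ k := by
  have key5 : ∀ a : ZMod 5, a ^ 2 + a + 1 ≠ 0 := by decide
  classical
  have := c.finite
  have := c.fdF
  let _ := Fintype.ofFinite K
  set q := Fintype.card F with hq
  have hq2 : 2 ≤ q := Fintype.one_lt_card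
  have hn0 : 7 ≤ q ^ 2 + q + 1 := by nlinarith
  -- a prime factor other than three
  obtain ⟨s, hs, hsd, hs3⟩ : ∃ s, s.Prime ∧ s ∣ q ^ 2 + q + 1 ∧ s ≠ 3 := by
    by_contra! hall
    obtain ⟨j, hj⟩ : ∃ j, q ^ 2 + q + 1 = 3 ^ j :=
      ⟨_, Nat.eq_prime_pow_of_unique_prime_dvd (by omega) (fun {d} hd hd' => hall d hd hd')⟩
    have h9 : ¬ 9 ∣ q ^ 2 + q + 1 := fun h => by
      have key : ∀ a : ZMod 9, a ^ 2 + a + 1 ≠ 0 := by decide
      refine key (q : ZMod 9) ?_
      have := (ZMod.natCast_eq_zero_iff _ 9).2 h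
      simpa using this
    have h2 : 2 ≤ j := by
      by_contra hlt
      have : 3 ^ j ≤ 3 ^ 1 := Nat.pow_le_pow_right (by norm_num) (by omega)
      omega
    exact h9 (hj ▸ (show 3 ^ 2 ∣ 3 ^ j from pow_dvd_pow 3 h2))
  have hs2 : s ≠ 2 := fun h => by
    subst h
    rcases Nat.even_or_odd q with ⟨a, ha⟩ | ⟨a, ha⟩ <;> rw [ha] at hsd <;> ring_nf at hsd <;> omega
  have hsF : (s : F) ≠ 0 := fun h => by
    obtain ⟨p, hp⟩ := CharP.exists F
    obtain ⟨m, hpp, hm⟩ := FiniteField.card F p
    rw [← hq] at hm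
    have hps : p = s := ((Nat.prime_dvd_prime_iff_eq hpp hs).1 ((CharP.cast_eq_zero_iff F p s).1 h))
    subst hps
    have hdq : p ∣ q ^ 2 + q := dvd_add (dvd_pow (hm ▸ dvd_pow_self p m.pos.ne') two_ne_zero)
      (hm ▸ dvd_pow_self p m.pos.ne')
    exact hpp.one_lt.not_ge (Nat.le_of_dvd one_pos ((Nat.dvd_add_right hdq).1 hsd))
  have hnq : ¬ s ∣ q - 1 := fun h => by
    obtain ⟨a, ha⟩ : ∃ a, q = a + 1 := ⟨q - 1, by omega⟩
    rw [ha] at hsd
    rw [ha, Nat.add_sub_cancel] at h
    have e : (a + 1) ^ 2 + (a + 1) + 1 = a * (a + 3) + 3 := by ring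
    rw [e] at hsd
    have : s ∣ 3 := (Nat.dvd_add_right (dvd_mul_of_dvd_left h _)).1 hsd
    exact hs3 ((Nat.prime_dvd_prime_iff_eq hs Nat.prime_three).1 this)
  have hdvd : s ∣ Nat.card Kˣ := by
    rw [Nat.card_units, Module.natCard_eq_pow_finrank (K := F), c.deg, Nat.card_eq_fintype_card, ← hq]
    refine hsd.trans ⟨q - 1, ?_⟩
    obtain ⟨a, ha⟩ : ∃ a, q = a + 1 := ⟨q - 1, by omega⟩
    rw [ha, Nat.add_sub_cancel, Nat.sub_eq_iff_eq_add (Nat.one_le_pow _ _ (by omega))]
    ring
  have : Fact s.Prime := ⟨hs⟩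
  obtain ⟨k, hk⟩ := exists_prime_orderOf_dvd_card' s hdvd
  have hk0 : orderOf (k : K) = s := by rw [orderOf_units, hk]
  have hkF : ∀ t : F, algebraMap F K t ≠ k := by
    intro t ht
    have hto : orderOf t = s := by
      rw [← orderOf_injective (algebraMap F K).toMonoidHom (algebraMap F K).injective t, ← hk0]
      exact congrArg orderOf ht
    refine hnq (hto ▸ orderOf_dvd_of_pow_eq_one ?_)
    exact FiniteField.pow_card_sub_one_eq_one t fun e => k.ne_zero (by rw [← ht, e, map_zero])
  have h7 : 7 ≤ s := by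
    by_contra hlt
    have h5 : s = 5 := by
      have := hs.two_le
      interval_cases s <;> simp_all (config := { decide := true })
    subst h5
    refine key5 (q : ZMod 5) ?_
    have := (ZMod.natCast_eq_zero_iff _ 5).2 hsd
    simpa using this
  exact ⟨s, k, hs, h7, hk0, hsF, hkF⟩

/-- Conjugation between tori sends lines to lines. -/
theorem norm_of_conj_tor {M : Subgroup (Isom Q)} (hL : c.LineNorm M) {u v : ι → F} (hp : c.Pair u v)
    {k k' : K} (hk : k ≠ 0) (hk2 : k * k ≠ 1) (hk' : k' ≠ 0) {τ τ' x : Isom Q} (hτ : c.IsTor u v k τ)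
    (hτ' : c.IsTor u v k' τ') (hx : x ∈ M) (he : x * τ = τ' * x) : Norm K x := by
  have hk1 : k ≠ 1 := fun e => hk2 (by rw [e, one_mul])
  let G : K →ₗ[F] (ι → F) := Matrix.toLin' (mat Q x) ∘ₗ
    (LinearMap.toSpanSingleton K (ι → F) u).restrictScalars F
  have hG : ∀ l : K, G l = mat Q x *ᵥ (l • u) := fun l => by simp [G]
  let A : K →ₗ[F] K := ((c.h v).restrictScalars F) ∘ₗ G
  let B : K →ₗ[F] K := ((c.h u).restrictScalars F) ∘ₗ G
  have hstep : ∀ l : K, G (k * l) = c.torMap u v k' (G l) := fun l => by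
    rw [hG, hG, ← hτ', ← hτ.apply_left c hp, mulVec_mulVec, mulVec_mulVec, ← mat_mul, ← mat_mul, he]
  have hA : ∀ l : K, A (k * l) = k' * A l := fun l => by
    show c.h v (G (k * l)) = k' * c.h v (G l)
    rw [hstep, torMap_apply]
    simp [hp.2.1, hp.vu]
    ring
  have hB : ∀ l : K, B (k * l) = k'⁻¹ * B l := fun l => by
    show c.h u (G (k * l)) = k'⁻¹ * c.h u (G l)
    rw [hstep, torMap_apply]
    simp [hp.1, hp.2.2]
    ring
  have hR : ∀ l : K, c.rest u v (G l) = 0 := by
    intro l
    obtain ⟨l', rfl⟩ : ∃ l', l = (k - 1) * l' := ⟨l / (k - 1), by rw [mul_div_cancel₀ _ (sub_ne_zero.2 hk1)]⟩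
    rw [sub_mul, one_mul, map_sub, hstep]
    simp only [rest, torMap_apply, map_add, map_sub, map_smul, smul_eq_mul, hp.1, hp.2.1, hp.2.2, hp.vu]
    module
  have hdec : ∀ l : K, mat Q x *ᵥ (l • u) = A l • u + B l • v := fun l => by
    rw [← hG]
    conv_lhs => rw [c.decomp u v (G l), hR, add_zero]
    rfl
  by_cases hB0 : B = 0
  · exact hL x hx u u hp.1 hp.left_ne hp.1 fun l => ⟨A l, by
      rw [hdec, hB0, LinearMap.zero_apply, zero_smul, add_zero]⟩
  · refine hL x hx u v hp.1 hp.left_ne hp.2.1 fun l => ⟨B l, ?_⟩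
    have hA0 : A = 0 := c.intertwine_eq_zero (fun e hek => hB0 (c.intertwine_eq_zero (fun e' he'k => ?_) hB)) hA
    · rw [hdec, hA0, LinearMap.zero_apply, zero_smul, zero_add]
    · have h1 : (e'.trans e.symm) k = k⁻¹ := by
        rw [AlgEquiv.trans_apply, he'k, ← hek, map_inv₀, AlgEquiv.symm_apply_apply]
      exact hk2 (c.sq_eq_one_of_inv _ hk h1)

/-- Members fixing the rest pointwise and normalising the field scale the pair. -/
theorem exists_isTor (hneg : ∀ g : Isom Q, (∀ x, mat Q g *ᵥ x = -x) → g ∉ Cfsg.Omega F ⇑Q) {u v : ι → F}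
    (hp : c.Pair u v) {y : Isom Q} (hy : y ∈ Cfsg.Omega F ⇑Q) (hn : Norm K y)
    (hfix : ∀ w, c.Rest u v w → mat Q y *ᵥ w = w) : ∃ a : K, a ≠ 0 ∧ c.IsTor u v a y := by
  have hRs : ∀ k : K, ∀ {w}, c.Rest u v w → c.Rest u v (k • w) := fun k {w} hw =>
    ⟨by rw [map_smul, hw.1, smul_zero], by rw [map_smul, hw.2, smul_zero]⟩
  obtain ⟨w, hw, hw0⟩ := hp.exists_rest
  have hl : Lin K y := by
    intro k x
    obtain ⟨k', hk'⟩ := hn k
    have h1 := hk' w
    rw [hfix w hw, hfix _ (hRs k hw)] at h1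
    rw [hk', ← smul_left_injective K hw0 h1]
  have horth : ∀ z w', c.h z w' = 0 → c.Rest u v w' → c.h (mat Q y *ᵥ z) w' = 0 := fun z w' h hw' => by
    rw [← hfix w' hw', c.h_map hl, h]
  have hplane : ∀ z, (∀ w', c.Rest u v w' → c.h z w' = 0) → c.rest u v z = 0 := by
    intro z hz
    by_contra hne
    refine hp.aniso (hp.rest_spec z) hne ?_
    have h := hz _ (hp.rest_spec z)
    set r := c.rest u v z with hr
    rw [c.decomp u v z, ← hr, map_add, map_add, LinearMap.add_apply, LinearMap.add_apply,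
      LinearMap.map_smul₂, LinearMap.map_smul₂, (hp.rest_spec z).1, (hp.rest_spec z).2] at h
    simpa using h
  have hu0 := hplane (mat Q y *ᵥ u) fun w' hw' => horth u w' hw'.1 hw'
  have hv0 := hplane (mat Q y *ᵥ v) fun w' hw' => horth v w' hw'.2 hw'
  set A := c.h v (mat Q y *ᵥ u)
  set B := c.h u (mat Q y *ᵥ u)
  set A' := c.h v (mat Q y *ᵥ v)
  set B' := c.h u (mat Q y *ᵥ v)
  have hyu : mat Q y *ᵥ u = A • u + B • v := by
    conv_lhs => rw [c.decomp u v (mat Q y *ᵥ u), hu0, add_zero]
  have hyv : mat Q y *ᵥ v = A' • u + B' • v := by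
    conv_lhs => rw [c.decomp u v (mat Q y *ᵥ v), hv0, add_zero]
  have e1 := c.h_map hl u u
  have e2 := c.h_map hl v v
  have e3 := c.h_map hl u v
  rw [hyu] at e1
  rw [hyv] at e2
  rw [hyu, hyv] at e3
  simp [hp.1, hp.2.1, hp.2.2, hp.vu] at e1 e2 e3
  have h2 := c.two'
  have hAB : A * B = 0 := (mul_eq_zero.1 (show (2 : K) * (A * B) = 0 by linear_combination e1)).resolve_left h2
  have hAB' : A' * B' = 0 := (mul_eq_zero.1 (show (2 : K) * (A' * B') = 0 by linear_combination e2)).resolve_left h2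
  rcases mul_eq_zero.1 hAB with hA0 | hB0
  · -- the swap is impossible
    exfalso
    have e3' : B * A' = 1 := by rw [hA0] at e3; linear_combination e3
    have hB'0 : B' = 0 := (mul_eq_zero.1 hAB').resolve_left (fun h => zero_ne_one (α := K) (by rw [← e3', h, mul_zero]))
    rw [hA0, zero_smul, zero_add] at hyu
    rw [hB'0, zero_smul, add_zero] at hyv
    have hyy : y * y = 1 := isom_ext fun x => by
      rw [mat_mul, ← mulVec_mulVec, mat_one, one_mulVec]
      conv_lhs => rw [c.decomp u v x]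
      simp only [mulVec_add, hl _ u, hl _ v, hyu, hyv, hfix _ (hp.rest_spec x), smul_smul, mul_assoc, e3',
        show A' * B = 1 by rw [mul_comm]; exact e3', mul_one]
      rw [← c.decomp u v x]
    have hy1 : y ≠ 1 := by
      intro h
      rw [h, mat_one, one_mulVec] at hyu
      have := congrArg (c.h v) hyu
      rw [hp.vu, map_smul, hp.2.1, smul_zero] at this
      exact one_ne_zero this
    obtain ⟨u', v', ε, hp', hε, hu', hv', hw'⟩ := c.exists_splits hneg hy hl hyy hy1
    -- the negated space is a line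
    have hneg1 : ∀ z, mat Q y *ᵥ z = -z → ∃ b : K, z = b • (u - B • v) := by
      intro z hz
      refine ⟨c.h v z, ?_⟩
      have hzd := c.decomp u v z
      have h1 := hz
      rw [hzd, mulVec_add, mulVec_add, hl, hl, hyu, hyv, hfix _ (hp.rest_spec z)] at h1
      have f1 := congrArg (c.h v) h1
      have hr := hp.rest_spec z
      simp only [map_add, map_smul, map_neg, smul_eq_mul, hp.2.1, hp.vu, hr.2, mul_zero, mul_one, add_zero,
        zero_add, smul_add] at f1
      have f3 : c.rest u v z = 0 := by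
        by_contra hne
        have h4 := congrArg (c.h (c.rest u v z)) h1
        simp only [map_add, map_smul, map_neg, smul_eq_mul, c.symm (c.rest u v z) u,
          c.symm (c.rest u v z) v, hr.1, hr.2, mul_zero, add_zero, zero_add] at h4
        have h5 : (2 : K) * c.h (c.rest u v z) (c.rest u v z) = 0 := by linear_combination h4
        exact hp.aniso hr hne ((mul_eq_zero.1 h5).resolve_left h2)
      conv_lhs => rw [hzd, f3, add_zero]
      rw [smul_sub, smul_smul, sub_eq_add_neg, ← neg_smul]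
      congr 2
      linear_combination B * f1 - c.h u z * e3'
    have hval : c.h (u - B • v) (u - B • v) ≠ 0 := by
      simp [hp.1, hp.2.1, hp.2.2, hp.vu]
      intro h
      have hB2 : (2 : K) * B = 0 := by linear_combination -h
      exact zero_ne_one (α := K) (by rw [← e3', (mul_eq_zero.1 hB2).resolve_left h2, zero_mul])
    rcases hε with rfl | rfl
    · obtain ⟨w₁, hw₁, hw₁0⟩ := hp'.exists_rest
      obtain ⟨w₂, hw₂, hw₂0, h12⟩ := c.exists_perp_rest hp' hw₁ hw₁0
      obtain ⟨b₁, rfl⟩ := hneg1 w₁ (by rw [hw' w₁ hw₁, one_smul])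
      obtain ⟨b₂, rfl⟩ := hneg1 w₂ (by rw [hw' w₂ hw₂, one_smul])
      rw [LinearMap.map_smul₂, map_smul, smul_eq_mul, smul_eq_mul, mul_eq_zero, mul_eq_zero] at h12
      rcases h12 with h | h | h
      · exact hw₁0 (by rw [h, zero_smul])
      · exact hw₂0 (by rw [h, zero_smul])
      · exact hval h
    · obtain ⟨b₁, rfl⟩ := hneg1 u' (by rw [hu', neg_one_smul])
      have h := hp'.1
      rw [LinearMap.map_smul₂, map_smul, smul_eq_mul, smul_eq_mul, mul_eq_zero, mul_eq_zero] at h
      rcases h with h | h | h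
      · exact hp'.left_ne (by rw [h, zero_smul])
      · exact hp'.left_ne (by rw [h, zero_smul])
      · exact hval h
  · have e3' : A * B' = 1 := by rw [hB0] at e3; linear_combination e3
    have hA'0 : A' = 0 := (mul_eq_zero.1 hAB').resolve_right (fun h => zero_ne_one (α := K) (by rw [← e3', h, mul_zero]))
    have hAne : A ≠ 0 := fun h => zero_ne_one (α := K) (by rw [← e3', h, zero_mul])
    refine ⟨A, hAne, fun x => ?_⟩
    rw [hB0, zero_smul, add_zero] at hyu
    rw [hA'0, zero_smul, zero_add, eq_inv_of_mul_eq_one_right e3'] at hyv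
    conv_lhs => rw [c.decomp u v x, mulVec_add, mulVec_add, hl, hl, hyu, hyv, hfix _ (hp.rest_spec x)]
    rw [torMap_apply, rest]
    module

/-- The fixer of the rest normalises the field. -/
theorem norm_of_fix {M : Subgroup (Isom Q)} (hM : Below K M) (hMΩ : M ≤ Cfsg.Omega F ⇑Q) (hL : c.LineNorm M)
    (hneg : ∀ g : Isom Q, (∀ x, mat Q g *ᵥ x = -x) → g ∉ Cfsg.Omega F ⇑Q) {u v : ι → F} (hp : c.Pair u v)
    {x : Isom Q} (hx : x ∈ M) (hfix : ∀ w, c.Rest u v w → mat Q x *ᵥ w = w) : Norm K x := by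
  classical
  have := c.finite
  have := c.fdF
  have := c.fdK
  have := c.nontrivial'
  obtain ⟨s, k, hs, h7, hks, hsF, hkF⟩ := c.exists_root_of_unity
  have : Fact s.Prime := ⟨hs⟩
  have hk0 : k ≠ 0 := fun e => hkF 0 (by rw [map_zero, e])
  have hksq : ∀ a : K, a ^ s = 1 → a ≠ 1 → a * a ≠ 1 := fun a ha ha1 h => by
    have h2 : orderOf a ∣ 2 := orderOf_dvd_of_pow_eq_one (by rw [pow_two, h])
    have h3 : orderOf a ∣ s := orderOf_dvd_of_pow_eq_one ha
    have := Nat.le_of_dvd two_pos h2
    rw [orderOf_eq_prime ha ha1] at this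
    omega
  have hk1 : k ≠ 1 := fun e => hs.ne_one (by rw [← hks, e, orderOf_one])
  have hkk : k * k ≠ 1 := hksq k (hks ▸ pow_orderOf_eq_one k) hk1
  obtain ⟨j, hj⟩ := hs.odd_of_ne_two (by omega)
  obtain ⟨τ₀, hτ₀M, -, hτ₀⟩ := c.exists_tor hM hp (l := k ^ (j + 1)) (pow_ne_zero _ hk0)
  rw [← pow_add, show j + 1 + (j + 1) = s + 1 by omega, pow_succ, ← hks, pow_orderOf_eq_one, one_mul] at hτ₀
  -- the fixer
  let X : Subgroup (Isom Q) :=
    { carrier := {g | g ∈ M ∧ ∀ w, c.Rest u v w → mat Q g *ᵥ w = w}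
      one_mem' := ⟨M.one_mem, fun w _ => by rw [mat_one, one_mulVec]⟩
      mul_mem' := fun {a b} ha hb => ⟨M.mul_mem ha.1 hb.1, fun w hw => by
        rw [mat_mul, ← mulVec_mulVec, hb.2 w hw, ha.2 w hw]⟩
      inv_mem' := fun {a} ha => ⟨M.inv_mem ha.1, fun w hw => by
        conv_lhs => rw [← ha.2 w hw, inv_mulVec_cancel]⟩ }
  have hτX : τ₀ ∈ X := ⟨hτ₀M, fun w hw => hτ₀.apply_rest c hw⟩
  let τ : X := ⟨τ₀, hτX⟩
  let T : Subgroup X :=
    { carrier := {g | Norm K (g : Isom Q)}
      one_mem' := fun k => ⟨k, fun x => by rw [OneMemClass.coe_one, mat_one, one_mulVec, one_mulVec]⟩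
      mul_mem' := fun {a b} ha hb => by
        rw [Set.mem_setOf_eq, Subgroup.coe_mul]; exact Norm.mul ha hb
      inv_mem' := fun {a} ha => by rw [Set.mem_setOf_eq, Subgroup.coe_inv]; exact Norm.inv ha }
  suffices hT : ∀ g : X, g ∈ T from hT ⟨x, hx, hfix⟩
  have htor : ∀ g : X, g ∈ T → ∃ a : K, a ≠ 0 ∧ c.IsTor u v a (g : Isom Q) := fun g hg =>
    c.exists_isTor hneg hp (hMΩ g.2.1) hg g.2.2
  have hTcomm : ∀ g ∈ T, ∀ g' ∈ T, g * g' = g' * g := by
    intro g hg g' hg'
    obtain ⟨a, -, ha⟩ := htor g hg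
    obtain ⟨b, -, hb⟩ := htor g' hg'
    refine Subtype.ext (isom_ext fun y => ?_)
    rw [Subgroup.coe_mul, Subgroup.coe_mul, mat_mul, mat_mul, ← mulVec_mulVec, ← mulVec_mulVec, ha, hb, hb, ha]
    simp only [torMap_apply, map_add, map_smul, smul_eq_mul, hp.1, hp.2.1, hp.2.2, hp.vu]
    module
  have hτT : τ ∈ T := hτ₀.lin.norm
  have hτpow : ∀ i : ℕ, c.IsTor u v (k ^ i) (τ₀ ^ i) := by
    intro i
    induction i with
    | zero => intro y; rw [pow_zero, pow_zero, mat_one, one_mulVec, torMap_apply]; simp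
    | succ i ih =>
      intro y
      rw [pow_succ', mat_mul, ← mulVec_mulVec, ih, hτ₀, pow_succ']
      simp only [torMap_apply, map_add, map_smul, smul_eq_mul, hp.1, hp.2.1, hp.2.2, hp.vu, mul_inv]
      module
  have hτo : orderOf τ = s := by
    rw [← Subgroup.orderOf_coe]
    refine orderOf_eq_prime (isom_ext fun y => ?_) fun h => hk1 ?_
    · rw [show ((τ : X) : Isom Q) = τ₀ from rfl, hτpow s, ← hks, pow_orderOf_eq_one, mat_one, one_mulVec,
        torMap_apply]
      simp
    · have := hτ₀.apply_left c hp 1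
      rw [show τ₀ = ((τ : X) : Isom Q) from rfl, h, mat_one, one_mulVec, one_smul, mul_one] at this
      exact smul_left_injective K hp.left_ne (this.symm.trans (one_smul K u).symm)
  -- normalising the torus
  have hconj : ∀ g : X, g * τ * g⁻¹ ∈ T → g ∈ T := by
    intro g hg
    obtain ⟨a, ha0, ha⟩ := htor _ hg
    exact c.norm_of_conj_tor hL hp hk0 hkk ha0 hτ₀ ha g.2.1
      (by simp only [Subgroup.coe_mul, Subgroup.coe_inv]; group; rfl)
  -- a Sylow subgroup lies in the torus
  obtain ⟨P, hP⟩ := (IsPGroup.of_card (n := 1) (by rw [Nat.card_zpowers, hτo, pow_one]) :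
    IsPGroup s (Subgroup.zpowers τ)).exists_le_sylow
  have hτP : τ ∈ (P : Subgroup X) := hP (Subgroup.mem_zpowers τ)
  have hPT : (P : Subgroup X) ≤ T := by
    intro g hg
    have hnil : Group.IsNilpotent (P : Subgroup X) := P.2.isNilpotent
    set D := T.subgroupOf (P : Subgroup X) with hD
    by_contra hgT
    have hlt : D < ⊤ := lt_of_le_of_ne le_top fun e => hgT
      (show (⟨g, hg⟩ : (P : Subgroup X)) ∈ D by rw [e]; exact Subgroup.mem_top _)
    obtain ⟨n, hn, hnD⟩ := SetLike.exists_of_lt (Group.normalizerCondition_of_isNilpotent D hlt)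
    refine hnD (hconj _ ?_)
    exact (Subgroup.mem_normalizer_iff.1 hn ⟨τ, hτP⟩).1 hτT
  have hnorm : Subgroup.normalizer ((P : Subgroup X) : Set X) ≤ Subgroup.centralizer ((P : Subgroup X) : Set X) := by
    intro g hg
    have hgT : g ∈ T := hconj g (hPT ((Subgroup.mem_normalizer_iff.1 hg τ).1 hτP))
    exact Subgroup.mem_centralizer_iff.2 fun y hy => hTcomm y (hPT hy) g hgT
  set N := (MonoidHom.transferSylow P hnorm).ker with hN
  have hcompl := MonoidHom.ker_transferSylow_isComplement' P hnorm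
  have hNcop : (Nat.card N).Coprime s :=
    Nat.Coprime.symm (hs.coprime_iff_not_dvd.2 (MonoidHom.not_dvd_card_ker_transferSylow P hnorm))
  suffices hNT : N ≤ T by
    intro g
    obtain ⟨⟨a, b⟩, hab⟩ := hcompl.2 g
    rw [← hab]
    exact T.mul_mem (hNT a.2) (hPT b.2)
  -- the plane as a space over the ground field
  let Pl : Submodule F (ι → F) :=
    { carrier := {y | ∀ w, c.Rest u v w → c.h y w = 0}
      add_mem' := fun ha hb w hw => by rw [map_add, LinearMap.add_apply, ha w hw, hb w hw, add_zero]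
      zero_mem' := fun w _ => by rw [map_zero, LinearMap.zero_apply]
      smul_mem' := fun t a ha w hw => by rw [← algebraMap_smul K t a, LinearMap.map_smul₂, ha w hw, smul_zero] }
  have hPld : finrank F Pl ≤ 6 := by
    let f : K × K →ₗ[F] (ι → F) :=
      ((LinearMap.toSpanSingleton K (ι → F) u).restrictScalars F).coprod
        ((LinearMap.toSpanSingleton K (ι → F) v).restrictScalars F)
    have hle : Pl ≤ LinearMap.range f := by
      intro y hy
      refine ⟨(c.h v y, c.h u y), ?_⟩
      have hr : c.rest u v y = 0 := by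
        by_contra hne
        refine hp.aniso (hp.rest_spec y) hne ?_
        have h := hy _ (hp.rest_spec y)
        set r := c.rest u v y with hr'
        rw [c.decomp u v y, ← hr', map_add, map_add, LinearMap.add_apply, LinearMap.add_apply,
          LinearMap.map_smul₂, LinearMap.map_smul₂, (hp.rest_spec y).1, (hp.rest_spec y).2] at h
        simpa using h
      conv_rhs => rw [c.decomp u v y, hr, add_zero]
      simp [f]
    refine (Submodule.finrank_mono hle).trans ((LinearMap.finrank_range_le f).trans ?_)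
    rw [Module.finrank_prod, c.deg]
  have hPlinv : ∀ g : X, ∀ y ∈ Pl, mat Q (g : Isom Q) *ᵥ y ∈ Pl := by
    intro g y hy w hw
    refine c.h_eq_zero_of_polar fun l => ?_
    have hlw : c.Rest u v (l • w) := ⟨by rw [map_smul, hw.1, smul_zero], by rw [map_smul, hw.2, smul_zero]⟩
    rw [c.polar_smul_comm, ← g.2.2 (l • w) hlw, polar_mulVec, c.tr, map_smul, hy w hw, smul_zero, map_zero]
  let ρ : X →* (Module.End F Pl)ˣ := MonoidHom.toHomUnits
    { toFun := fun g => LinearMap.restrict (Matrix.toLin' (mat Q (g : Isom Q)))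
        (fun y hy => by rw [Matrix.toLin'_apply]; exact hPlinv g y hy)
      map_one' := LinearMap.ext fun y => Subtype.ext (by
        rw [LinearMap.restrict_coe_apply, Matrix.toLin'_apply, OneMemClass.coe_one, mat_one, one_mulVec]; rfl)
      map_mul' := fun a b => LinearMap.ext fun y => Subtype.ext (by
        rw [LinearMap.restrict_coe_apply, Matrix.toLin'_apply, Subgroup.coe_mul, mat_mul, ← mulVec_mulVec]; rfl) }
  have hρ : ∀ (g : X) (y : Pl), (((ρ g : (Module.End F Pl)ˣ) : Module.End F Pl) y : ι → F)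
      = mat Q (g : Isom Q) *ᵥ y := fun g y => rfl
  have hsplit : ∀ y : ι → F, y - c.rest u v y ∈ Pl := by
    intro y w hw
    rw [rest, show y - (y - c.h v y • u - c.h u y • v) = c.h v y • u + c.h u y • v by abel, map_add,
      LinearMap.add_apply, LinearMap.map_smul₂, LinearMap.map_smul₂, hw.1, hw.2, smul_zero, smul_zero,
      add_zero]
  have hρinj : Function.Injective ρ := fun g g' e => Subtype.ext (isom_ext fun y => by
    have h1 := congrArg Subtype.val (LinearMap.congr_fun (congrArg Units.val e) ⟨_, hsplit y⟩)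
    rw [hρ, hρ] at h1
    conv_lhs => rw [show y = (y - c.rest u v y) + c.rest u v y by abel, mulVec_add, h1,
      g.2.2 _ (hp.rest_spec y)]
    conv_rhs => rw [show y = (y - c.rest u v y) + c.rest u v y by abel, mulVec_add,
      g'.2.2 _ (hp.rest_spec y)])
  -- every Sylow subgroup of the complement
  have hNsyl : ∀ (ℓ : ℕ) [Fact ℓ.Prime], ∃ S : Sylow ℓ N, (S : Subgroup N).map N.subtype ≤ T := by
    intro ℓ hℓ
    obtain ⟨S, hS⟩ := LocalEven50.exists_invariant_sylow (p := s) (x := τ)
      (IsPGroup.of_card (n := 1) (by rw [Nat.card_zpowers, hτo, pow_one])) N hNcop ℓ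
    refine ⟨S, ?_⟩
    set R := (S : Subgroup N).map N.subtype
    intro g hg
    rcases eq_or_ne ℓ s with rfl | hℓs
    · have hbot : (S : Subgroup N) = ⊥ := by
        refine Subgroup.card_eq_one.1 ?_
        obtain ⟨i, hi⟩ := IsPGroup.iff_card.1 S.2
        have hdvd := Subgroup.card_subgroup_dvd_card (S : Subgroup N)
        rw [hi] at hdvd ⊢
        rcases Nat.eq_zero_or_pos i with rfl | hipos
        · rw [pow_zero]
        · exact absurd ((dvd_pow_self _ hipos.ne').trans hdvd) (hs.coprime_iff_not_dvd.1 hNcop.symm)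
      rw [show R = ⊥ by simp [R, hbot]] at hg
      rw [Subgroup.mem_bot.1 hg]
      exact T.one_mem
    have hRp : IsPGroup ℓ R := S.2.map _
    have hRconj : ∀ r ∈ R, τ * r * τ⁻¹ ∈ R := fun r hr => (Subgroup.mem_normalizer_iff.1 hS r).1 hr
    by_cases hℓF : (ℓ : F) = 0
    · -- a non-zero fixed vector in the plane
      let Rρ := R.map ρ
      have hRρ : IsPGroup ℓ Rρ := hRp.map _
      have : Finite Pl := Module.finite_of_finite F
      have hcard : ℓ ∣ Nat.card Pl := by
        have : CharP F ℓ := CharP.ringChar_of_prime_eq_zero hℓ.out hℓF ▸ ringChar.charP F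
        obtain ⟨m, -, hm⟩ := FiniteField.card F ℓ
        rw [Module.natCard_eq_pow_finrank (K := F), Nat.card_eq_fintype_card, hm, ← pow_mul]
        refine dvd_pow_self _ (Nat.mul_ne_zero m.pos.ne' ?_)
        have hu : u ∈ Pl := fun w hw => hw.1
        exact (Module.finrank_pos_iff_exists_ne_zero.2 ⟨⟨u, hu⟩, fun e => hp.left_ne (congrArg Subtype.val e)⟩).ne'
      let act : MulAction Rρ Pl :=
        { smul := fun r y => ((r : (Module.End F Pl)ˣ) : Module.End F Pl) y
          one_smul := fun y => rfl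
          mul_smul := fun r r' y => rfl }
      obtain ⟨y, hy, hy0⟩ := hRρ.exists_fixed_point_of_prime_dvd_card_of_fixed_point Pl hcard
        (a := (0 : Pl)) (fun r => show ((r : (Module.End F Pl)ˣ) : Module.End F Pl) 0 = 0 from map_zero _)
      let Φ : Submodule F (ι → F) :=
        { carrier := {z | ∀ r ∈ R, mat Q ((r : X) : Isom Q) *ᵥ z = z}
          add_mem' := fun ha hb r hr => by rw [mulVec_add, ha r hr, hb r hr]
          zero_mem' := fun r _ => mulVec_zero _
          smul_mem' := fun t a ha r hr => by rw [mulVec_smul, ha r hr] }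
      have hyΦ : (y : ι → F) ∈ Φ := fun r hr => by
        have e := congrArg Subtype.val (hy ⟨ρ r, Subgroup.mem_map_of_mem ρ hr⟩)
        exact (hρ r y).symm.trans e
      have hΦτ : ∀ z ∈ Φ, mat Q τ₀ *ᵥ z ∈ Φ := by
        intro z hz r hr
        have hr' : τ⁻¹ * r * τ ∈ R := by
          have := (Subgroup.mem_normalizer_iff.1 (Subgroup.inv_mem _ hS) r).1 hr
          rwa [inv_inv] at this
        have := hz _ hr'
        rw [Subgroup.coe_mul, Subgroup.coe_mul, Subgroup.coe_inv, mat_mul, mat_mul, ← mulVec_mulVec,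
          ← mulVec_mulVec] at this
        exact (mulVec_eq_iff τ₀⁻¹).1 (this.trans (inv_mulVec_cancel _ _).symm)
      have hstable : ∀ (a : K) (z : ι → F), (∀ l : K, mat Q τ₀ *ᵥ (l • z) = (a * l) • z) →
          (∀ t : F, algebraMap F K t ≠ a) → (∃ l : K, l ≠ 0 ∧ l • z ∈ Φ) → ∀ l : K, l • z ∈ Φ := by
        intro a z hz haF hex
        let S : Submodule F K := Φ.comap ((LinearMap.toSpanSingleton K (ι → F) z).restrictScalars F)
        have hmem : ∀ l, l ∈ S ↔ l • z ∈ Φ := fun l => Iff.rfl
        have hS : ∀ l ∈ S, a * l ∈ S := fun l hl => by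
          rw [hmem, ← hz]; exact hΦτ _ hl
        suffices S = ⊤ from fun l => (hmem l).1 (this ▸ Submodule.mem_top)
        obtain ⟨l₀, hl₀, hl₀S⟩ := hex
        have hS0 : 1 ≤ finrank F S := Module.finrank_pos_iff_exists_ne_zero.2
          ⟨⟨l₀, (hmem l₀).2 hl₀S⟩, fun e => hl₀ (congrArg Subtype.val e)⟩
        have hS3 : finrank F S ≤ 3 := c.deg ▸ Submodule.finrank_le S
        rcases (show finrank F S = 1 ∨ finrank F S = 2 ∨ finrank F S = 3 by omega) with h | h | h
        · exfalso
          obtain ⟨e, he⟩ := (finrank_eq_one_iff_of_nonzero' (⟨l₀, (hmem l₀).2 hl₀S⟩ : S)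
            (fun e => hl₀ (congrArg Subtype.val e))).1 h ⟨_, hS l₀ ((hmem l₀).2 hl₀S)⟩
          have e' : e • l₀ = a * l₀ := congrArg Subtype.val he
          rw [Algebra.smul_def] at e'
          exact haF e (mul_right_cancel₀ hl₀ e')
        · exfalso
          have h1 : finrank F (K ⧸ S) = 1 := by
            have := Submodule.finrank_quotient_add_finrank S; rw [c.deg, h] at this; omega
          obtain ⟨z₀, hz₀, hgen⟩ := finrank_eq_one_iff'.1 h1
          obtain ⟨l₁, rfl⟩ := Submodule.Quotient.mk_surjective S z₀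
          obtain ⟨e, he⟩ := hgen (Submodule.Quotient.mk (a * l₁))
          have hmap : ∀ l : K, (a - algebraMap F K e) * l ∈ S := by
            intro l
            obtain ⟨e', he'⟩ := hgen (Submodule.Quotient.mk l)
            rw [← Submodule.Quotient.mk_smul, Submodule.Quotient.eq] at he'
            rw [← Submodule.Quotient.mk_smul, Submodule.Quotient.eq] at he
            have h2 : (a - algebraMap F K e) * l = -(a * (e' • l₁ - l)) + e • (e' • l₁ - l)
                - e' • (e • l₁ - a * l₁) := by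
              simp only [Algebra.smul_def]; ring
            rw [h2]
            exact S.sub_mem (S.add_mem (S.neg_mem (hS _ he')) (S.smul_mem _ he')) (S.smul_mem _ he)
          have htop : S = ⊤ := Submodule.eq_top_iff'.2 fun l => by
            have := hmap ((a - algebraMap F K e)⁻¹ * l)
            rwa [mul_inv_cancel_left₀ (sub_ne_zero.2 fun e' => haF e e'.symm)] at this
          rw [htop, finrank_top, c.deg] at h
          omega
        · exact Submodule.eq_top_of_finrank_eq (by rw [h, c.deg])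
      have hyd : (y : ι → F) = c.h v y • u + c.h u y • v := by
        have hr : c.rest u v (y : ι → F) = 0 := by
          by_contra hne
          refine hp.aniso (hp.rest_spec _) hne ?_
          have h := y.2 _ (hp.rest_spec y)
          set r := c.rest u v (y : ι → F) with hr'
          rw [c.decomp u v (y : ι → F), ← hr', map_add, map_add, LinearMap.add_apply, LinearMap.add_apply,
            LinearMap.map_smul₂, LinearMap.map_smul₂, (hp.rest_spec (y : ι → F)).1,
            (hp.rest_spec (y : ι → F)).2] at h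
          simpa using h
        conv_lhs => rw [c.decomp u v (y : ι → F), hr, add_zero]
      have hfixline : ∀ z : ι → F, c.h z z = 0 → z ≠ 0 → (∀ l : K, l • z ∈ Φ) → g ∈ T := fun z hz hz0 hzΦ =>
        hL _ g.2.1 z z hz hz0 hz fun l => ⟨l, hzΦ l g hg⟩
      have hkinvF : ∀ t : F, algebraMap F K t ≠ k⁻¹ := fun t e => hkF t⁻¹ (by rw [map_inv₀, e, inv_inv])
      -- polynomials in the torus
      let Sp : Submodule F (K × K) := Φ.comap (((LinearMap.toSpanSingleton K (ι → F) u).restrictScalars F).coprod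
        ((LinearMap.toSpanSingleton K (ι → F) v).restrictScalars F))
      have hSp : ∀ a b : K, (a, b) ∈ Sp ↔ a • u + b • v ∈ Φ := fun a b => Iff.rfl
      have hSpτ : ∀ a b : K, (a, b) ∈ Sp → (k * a, k⁻¹ * b) ∈ Sp := fun a b h => by
        rw [hSp, ← hτ₀.apply_left c hp, ← hτ₀.apply_right c hp, ← mulVec_add]
        exact hΦτ _ h
      have hpoly : ∀ (f : Polynomial F) (a b : K), (a, b) ∈ Sp →
          (Polynomial.aeval k f * a, Polynomial.aeval k⁻¹ f * b) ∈ Sp := by
        intro f
        induction f using Polynomial.induction_on' with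
        | add f f' hf hf' =>
          intro a b h
          simpa [map_add, add_mul] using Sp.add_mem (hf a b h) (hf' a b h)
        | monomial i t =>
          intro a b h
          have hp' : ∀ i : ℕ, (k ^ i * a, k⁻¹ ^ i * b) ∈ Sp := fun i => by
            induction i with
            | zero => simpa using h
            | succ i ih =>
              have := hSpτ _ _ ih
              rwa [← mul_assoc, ← mul_assoc, ← pow_succ', ← pow_succ'] at this
          simpa [Polynomial.aeval_monomial, Algebra.smul_def, mul_assoc] using Sp.smul_mem t (hp' i)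
      by_cases hyb : c.h u (y : ι → F) = 0
      · refine hfixline u hp.1 hp.left_ne (hstable k u (fun l => hτ₀.apply_left c hp l) hkF
          ⟨c.h v (y : ι → F), fun e => ?_, ?_⟩)
        · exact hy0.symm (Subtype.ext (by rw [hyd, e, hyb, zero_smul, zero_smul, add_zero]; rfl))
        · rw [hyd, hyb, zero_smul, add_zero] at hyΦ
          exact hyΦ
      · refine hfixline v hp.2.1 hp.symm.left_ne (hstable k⁻¹ v (fun l => hτ₀.apply_right c hp l) hkinvF ?_)
        have hk' : Polynomial.aeval k⁻¹ (minpoly F k) ≠ 0 := fun h => by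
          obtain ⟨e, he⟩ := minpoly.exists_algEquiv_of_root' (K := F) (L := K)
            (Algebra.IsIntegral.isIntegral k).isAlgebraic h
          exact hkk (c.sq_eq_one_of_inv e hk0 he)
        have := hpoly (minpoly F k) _ _ ((hSp _ _).2 (hyd ▸ hyΦ))
        rw [minpoly.aeval, zero_mul, hSp, zero_smul, zero_add] at this
        exact ⟨_, mul_ne_zero hk' hyb, this⟩
    · -- the torus centralises
      have hρτ : (ρ τ) ^ s = 1 := by rw [← map_pow, ← hτo, pow_orderOf_eq_one, map_one]
      have hcomm := commute_of_normalises (F := F) (V := Pl) (s := s) (ℓ := ℓ) h7 hPld hℓs hℓF hρτ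
        (R := R.map ρ) (hRp.map _) (by
          rintro _ ⟨r, hr, rfl⟩
          exact ⟨_, hRconj r hr, by simp⟩) (ρ g) (Subgroup.mem_map_of_mem ρ hg)
      have hgτ : τ * g = g * τ := hρinj (by rw [map_mul, map_mul, hcomm])
      exact hconj g (by rw [← hgτ, mul_inv_cancel_right]; exact hτT)
  have hidx : (T.subgroupOf N).index = 1 := by
    refine Nat.eq_one_iff_not_exists_prime_dvd.2 fun ℓ hℓ hdvd => ?_
    have : Fact ℓ.Prime := ⟨hℓ⟩
    obtain ⟨S, hS⟩ := hNsyl ℓ
    exact S.not_dvd_index (hdvd.trans (Subgroup.index_dvd_of_le fun g hg =>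
      (show (g : X) ∈ T from hS (Subgroup.mem_map_of_mem _ hg))))
  intro g hg
  exact (show (⟨g, hg⟩ : N) ∈ T.subgroupOf N by rw [Subgroup.index_eq_one.1 hidx]; exact Subgroup.mem_top _)

/-- The centraliser of an involution normalises the field. -/
theorem norm_of_commute {M : Subgroup (Isom Q)} (hM : Below K M) (hMΩ : M ≤ Cfsg.Omega F ⇑Q)
    (hL : c.LineNorm M) (hneg : ∀ g : Isom Q, (∀ x, mat Q g *ᵥ x = -x) → g ∉ Cfsg.Omega F ⇑Q) {t : Isom Q}
    (htl : Lin K t) {u v : ι → F} {ε : K} (hs : c.Splits t u v ε) {x : Isom Q} (hx : x ∈ M)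
    (hc : x * t = t * x) : Norm K x := by
  have := c.finite
  have := c.fdF
  have := c.nontrivial'
  obtain ⟨hp, hε, htu, htv, htw⟩ := hs
  have hε0 : ε ≠ 0 := by rcases hε with rfl | rfl <;> simp
  obtain ⟨s, k, hsp, h7, hks, -, hkF⟩ := c.exists_root_of_unity
  have hk0 : k ≠ 0 := fun e => hkF 0 (by rw [map_zero, e])
  obtain ⟨j, hj⟩ := hsp.odd_of_ne_two (by omega)
  obtain ⟨τ, hτM, -, hτ⟩ := c.exists_tor hM hp (l := k ^ (j + 1)) (pow_ne_zero _ hk0)
  rw [← pow_add, show j + 1 + (j + 1) = s + 1 by omega, pow_succ, ← hks, pow_orderOf_eq_one, one_mul] at hτ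
  have hrest : ∀ (g : Isom Q), g * t = t * g → ∀ w, c.Rest u v w → c.Rest u v (mat Q g *ᵥ w) := by
    intro g hg w hw
    set z := mat Q g *ᵥ w with hz
    have h1 : mat Q t *ᵥ z = -(ε • z) := by
      rw [hz, mulVec_mulVec, ← mat_mul, ← hg, mat_mul, ← mulVec_mulVec, htw w hw, mulVec_neg]
      rcases hε with rfl | rfl
      · rw [one_smul, one_smul]
      · rw [neg_one_smul, neg_one_smul, mulVec_neg]
    constructor
    · have := c.h_map htl u z
      rw [htu, h1, LinearMap.map_smul₂, map_neg, map_smul, smul_eq_mul, smul_eq_mul] at this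
      have h2 : (2 : K) * c.h u z = 0 := by
        rcases hε with rfl | rfl <;> linear_combination -this
      exact (mul_eq_zero.1 h2).resolve_left c.two'
    · have := c.h_map htl v z
      rw [htv, h1, LinearMap.map_smul₂, map_neg, map_smul, smul_eq_mul, smul_eq_mul] at this
      have h2 : (2 : K) * c.h v z = 0 := by
        rcases hε with rfl | rfl <;> linear_combination -this
      exact (mul_eq_zero.1 h2).resolve_left c.two'
  have hcinv : x⁻¹ * t = t * x⁻¹ := (Commute.inv_left hc).eq
  set y := x * τ * x⁻¹ with hy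
  have hyM : y ∈ M := M.mul_mem (M.mul_mem hx hτM) (M.inv_mem hx)
  have hyfix : ∀ w, c.Rest u v w → mat Q y *ᵥ w = w := fun w hw => by
    rw [hy, mat_mul, mat_mul, ← mulVec_mulVec, ← mulVec_mulVec, hτ.apply_rest c (hrest _ hcinv w hw),
      mulVec_inv_cancel]
  have hyn := c.norm_of_fix hM hMΩ hL hneg hp hyM hyfix
  obtain ⟨a, ha0, ha⟩ := c.exists_isTor hneg hp (hMΩ hyM) hyn hyfix
  refine c.norm_of_conj_tor hL hp hk0 (fun h => ?_) ha0 hτ ha hx (by rw [hy, inv_mul_cancel_right])
  have h2 : orderOf k ∣ 2 := orderOf_dvd_of_pow_eq_one (by rw [pow_two, h])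
  have := Nat.le_of_dvd two_pos h2
  omega

end Cubic

end CfsgLib.OrthCubic
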