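import Cfsg.Agent.OrthCubic.Torus
import Cfsg.Agent.AutPOmega.InvolutionReduce
import Cfsg.Agent.Forms.PlusType

/-!
# The involutions of `Ω` commuting with the cubic field

They negate a hyperbolic plane or its orthogonal, and they are conjugate.
-/

set_option autoImplicit false
set_option linter.unusedSectionVars false
set_option maxHeartbeats 1000000

namespace CfsgLib.OrthCubic

open Matrix Module CfsgLib.Spinor CfsgLib.OrthMax

variable {F : Type*} [Field F] [Fintype F] {ι : Type} [Fintype ι] [DecidableEq ι]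
  {Q : QuadraticForm F (ι → F)}

/-- Negation is outside `Ω` for minus type in dimension `2k` with `k` even. -/
theorem neg_one_notMem_omega (h2 : (2 : F) ≠ 0) (hQ : (QuadraticMap.polarBilin Q).Nondegenerate) {k : ℕ}
    (hι : Fintype.card ι = 2 * k) (hk : Even k)
    (hminus : ¬ ∃ X : Submodule F (ι → F), finrank F X = k ∧ ∀ x ∈ X, Q x = 0)
    {g : Isom Q} (hg : ∀ x, mat Q g *ᵥ x = -x) : g ∉ Cfsg.Omega F ⇑Q := by
  classical
  obtain ⟨b, hb, hbq⟩ := exists_orthogonal_anisotropic_basis h2 hQ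
  have key : ∀ l : List (Fin (finrank F (ι → F))), l.Nodup → ∀ j,
      (l.map fun i => Cfsg.reflectionMatrix (⇑Q) (b i)).prod *ᵥ b j = if j ∈ l then -b j else b j := by
    intro l hl
    induction l with
    | nil => intro j; simp
    | cons i l ih =>
      intro j
      rw [List.nodup_cons] at hl
      rw [List.map_cons, List.prod_cons, ← mulVec_mulVec, ih hl.2]
      rcases eq_or_ne j i with rfl | hne
      · rw [if_neg hl.1, if_pos List.mem_cons_self, reflectionMatrix_mulVec, refl_apply, polar_self']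
        match_scalars
        field_simp [hbq j]
        ring
      · have h0 : QuadraticMap.polar (⇑Q) (b i) (b j) = 0 := hb i j hne.symm
        rw [reflectionMatrix_mulVec, refl_apply]
        split_ifs with h1 h3 <;> simp_all
  set L := (Finset.univ : Finset (Fin (finrank F (ι → F)))).toList with hL
  have hprod : IsReflProd Q g (L.map fun i => b i) := by
    refine ⟨fun v hv => ?_, ?_⟩
    · obtain ⟨i, -, rfl⟩ := List.mem_map.1 hv
      exact hbq i
    · refine Matrix.ext_iff_mulVec.2 fun x => ?_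
      rw [List.map_map]
      have h1 : Matrix.toLin' (mat Q g) =
          Matrix.toLin' (L.map ((fun v => Cfsg.reflectionMatrix (⇑Q) v) ∘ fun i => b i)).prod := by
        refine b.ext fun j => ?_
        rw [Matrix.toLin'_apply, Matrix.toLin'_apply, hg]
        refine ((key L (Finset.nodup_toList _) j).trans ?_).symm
        rw [if_pos (Finset.mem_toList.2 (Finset.mem_univ j))]
      exact LinearMap.congr_fun h1 x
  intro hmem
  have hsq := ((mem_omega_iff h2 hQ hprod).1 hmem).2
  rw [List.map_map] at hsq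
  have hp : (L.map ((fun v => Q v) ∘ fun i => b i)).prod = ∏ i, Q (b i) := by
    rw [Finset.prod_map_toList]; rfl
  rw [hp] at hsq
  have hcard : Fintype.card (Fin (finrank F (ι → F))) = 2 * k := by
    rw [Fintype.card_fin, Module.finrank_pi, hι]
  have hM : LinearMap.BilinForm.toMatrix b (QuadraticMap.polarBilin Q) = Matrix.diagonal fun i => 2 * Q (b i) := by
    ext i j
    rw [LinearMap.BilinForm.toMatrix_apply, QuadraticMap.polarBilin_apply_apply]
    rcases eq_or_ne i j with rfl | hne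
    · rw [Matrix.diagonal_apply_eq, polar_self']
    · rw [Matrix.diagonal_apply_ne _ hne, hb i j hne]
  have hdet := hM ▸ Matrix.det_diagonal (d := fun i => 2 * Q (b i))
  refine hminus ?_
  obtain ⟨X, hX, hXiso⟩ := (Forms.plus_iff_isSquare h2 (QuadraticMap.polarBilin Q)
    ⟨fun x y => QuadraticMap.polar_comm _ x y⟩ b (by
      rw [hdet]; exact Finset.prod_ne_zero_iff.2 fun i _ => mul_ne_zero h2 (hbq i)) hcard).2 (by
      rw [hdet, Even.neg_one_pow hk, one_mul, Finset.prod_mul_distrib, Finset.prod_const, Finset.card_univ,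
        hcard, two_mul, pow_add]
      exact (IsSquare.mul_self _).mul hsq)
  refine ⟨X, hX, fun x hx => ?_⟩
  have := hXiso x hx x hx
  rw [QuadraticMap.polarBilin_apply_apply, polar_self'] at this
  exact (mul_eq_zero.1 this).resolve_left h2

variable {K : Type*} [Field K] [Algebra F K] [Module K (ι → F)] [IsScalarTower F K (ι → F)]

namespace Cubic

variable (c : Cubic Q K)
include c

/-- An involution negating or fixing a hyperbolic pair, and doing the opposite on its rest. -/
def Splits (t : Isom Q) (u v : ι → F) (ε : K) : Prop :=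
  c.Pair u v ∧ (ε = 1 ∨ ε = -1) ∧ mat Q t *ᵥ u = ε • u ∧ mat Q t *ᵥ v = ε • v ∧
    ∀ w, c.Rest u v w → mat Q t *ᵥ w = -(ε • w)

/-- Classification of involutions. -/
theorem exists_splits (hneg : ∀ g : Isom Q, (∀ x, mat Q g *ᵥ x = -x) → g ∉ Cfsg.Omega F ⇑Q) {t : Isom Q}
    (ht : t ∈ Cfsg.Omega F ⇑Q) (htl : Lin K t) (ht2 : t * t = 1) (ht1 : t ≠ 1) :
    ∃ u v ε, c.Splits t u v ε := by
  have := c.fdK
  have := c.fdF
  have := c.finite
  have h2K := c.two'
  have htt : ∀ x, mat Q t *ᵥ (mat Q t *ᵥ x) = x := fun x => by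
    rw [mulVec_mulVec, ← mat_mul, ht2, mat_one, one_mulVec]
  let T : (ι → F) →ₗ[K] (ι → F) :=
    { toFun := fun x => mat Q t *ᵥ x
      map_add' := fun a b => mulVec_add _ a b
      map_smul' := fun k x => htl k x }
  set P := LinearMap.ker (T - LinearMap.id)
  set N := LinearMap.ker (T + LinearMap.id)
  have hP : ∀ {x}, x ∈ P ↔ mat Q t *ᵥ x = x := fun {x} => by simp [P, sub_eq_zero, T]
  have hN : ∀ {x}, x ∈ N ↔ mat Q t *ᵥ x = -x := fun {x} => by simp [N, add_eq_zero_iff_eq_neg, T]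
  obtain ⟨-, hsum⟩ := AutPOmega.det_of_involution h2K T htt
  rw [c.dim] at hsum
  obtain ⟨hdet, -⟩ := AutPOmega.det_of_involution c.two (Matrix.toLin' (mat Q t))
    (fun x => by rw [Matrix.toLin'_apply, Matrix.toLin'_apply, htt])
  have hF : finrank F (LinearMap.ker (Matrix.toLin' (mat Q t) + LinearMap.id)) = 3 * finrank K N := by
    have e : finrank F (LinearMap.ker (Matrix.toLin' (mat Q t) + LinearMap.id)) = finrank F N :=
      LinearEquiv.finrank_eq
        { toFun := fun x => ⟨x.1, x.2⟩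
          invFun := fun x => ⟨x.1, x.2⟩
          map_add' := fun _ _ => rfl
          map_smul' := fun _ _ => rfl }
    rw [e, ← c.deg, Module.finrank_mul_finrank]
  have h1 : (-1 : F) ^ (3 * finrank K N) = 1 := by
    rw [← hF, ← hdet, LinearMap.det_toLin']
    exact (Forms.mem_special_iff t).1 (Forms.omega_le_special ht)
  have heven : Even (finrank K N) := by
    rcases Nat.even_or_odd (finrank K N) with h | h
    · exact h
    · rw [Odd.neg_one_pow (Nat.odd_mul.2 ⟨by decide, h⟩)] at h1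
      exact absurd (by linear_combination -h1 : (2 : F) = 0) c.two
  have hN0 : finrank K N ≠ 0 := fun h0 => ht1 (isom_ext fun x => by
    have hPtop : P = ⊤ := Submodule.eq_top_of_finrank_eq (by
      rw [c.dim]; show finrank K P = 4; change finrank K P + finrank K N = 4 at hsum; omega)
    rw [mat_one, one_mulVec]
    exact hP.1 (hPtop ▸ Submodule.mem_top))
  have hN4 : finrank K N ≠ 4 := fun h4 => hneg t (fun x => by
    have hNtop : N = ⊤ := Submodule.eq_top_of_finrank_eq (by rw [h4, c.dim])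
    exact hN.1 (hNtop ▸ Submodule.mem_top)) ht
  change finrank K P + finrank K N = 4 at hsum
  obtain ⟨j, hj⟩ := heven
  have hdN : finrank K N = 2 := by omega
  have hdP : finrank K P = 2 := by omega
  have horth : ∀ {x y}, x ∈ P → y ∈ N → c.h x y = 0 := fun {x y} hx hy => by
    have := c.h_map htl x y
    rw [hP.1 hx, hN.1 hy, map_neg] at this
    have h' : (2 : K) * c.h x y = 0 := by linear_combination -this
    exact (mul_eq_zero.1 h').resolve_left h2K
  have hdec : ∀ x, ∃ p ∈ P, ∃ n ∈ N, x = p + n := fun x =>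
    ⟨(2 : K)⁻¹ • (x + mat Q t *ᵥ x), hP.2 (by rw [htl, mulVec_add, htt, add_comm]),
      (2 : K)⁻¹ • (x - mat Q t *ᵥ x), hN.2 (by rw [htl, mulVec_sub, htt, ← smul_neg, neg_sub]),
      by match_scalars <;> field_simp <;> ring⟩
  have hsepP : ∀ x ∈ P, (∀ y ∈ P, c.h x y = 0) → x = 0 := fun x hx h => c.h_sep fun y => by
    obtain ⟨p, hp, n, hn, rfl⟩ := hdec y
    rw [map_add, h p hp, horth hx hn, add_zero]
  have hsepN : ∀ x ∈ N, (∀ y ∈ N, c.h x y = 0) → x = 0 := fun x hx h => c.h_sep fun y => by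
    obtain ⟨p, hp, n, hn, rfl⟩ := hdec y
    rw [map_add, h n hn, c.symm, horth hp hx, add_zero]
  -- a hyperbolic eigenspace gives the answer
  have hcase : ∀ (E E' : Submodule K (ι → F)) (ε : K), (ε = 1 ∨ ε = -1) →
      (∀ x ∈ E, mat Q t *ᵥ x = ε • x) → (∀ x ∈ E', mat Q t *ᵥ x = -(ε • x)) → finrank K E = 2 →
      (∀ x, ∃ p ∈ E, ∃ n ∈ E', x = p + n) → (∀ {x y}, x ∈ E → y ∈ E' → c.h x y = 0) →
      (∀ x ∈ E, (∀ y ∈ E, c.h x y = 0) → x = 0) →
      (∃ u ∈ E, u ≠ 0 ∧ c.h u u = 0) → ∃ u v ε, c.Splits t u v ε := by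
    rintro E E' ε hε hE hE' hdE hdec' horth' hsep ⟨u, hu, hu0, huu⟩
    obtain ⟨y, hy, huy⟩ : ∃ y ∈ E, c.h u y ≠ 0 := by
      by_contra! h; exact hu0 (hsep u hu h)
    set p := (c.h u y)⁻¹ • y with hpdef
    have hp : c.h u p = 1 := by rw [hpdef, map_smul, smul_eq_mul, inv_mul_cancel₀ huy]
    have hpE : p ∈ E := E.smul_mem _ hy
    clear_value p
    set v := p - c.q p • u with hvdef
    have hvE : v ∈ E := E.sub_mem hpE (E.smul_mem _ hu)
    have hpair : c.Pair u v := by
      refine ⟨huu, ?_, by simp [hvdef, huu, hp]⟩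
      simp only [hvdef, map_sub, map_smul, LinearMap.sub_apply, LinearMap.smul_apply, smul_eq_mul, huu, hp,
        c.symm p u]
      linear_combination -c.two_q p
    have hspan : Submodule.span K (Set.range ![u, v]) = E := by
      have hLI : LinearIndependent K ![u, v] := by
        rw [LinearIndependent.pair_iff]
        intro s r hsr
        have e1 := congrArg (c.h v) hsr
        have e2 := congrArg (c.h u) hsr
        simp [hpair.1, hpair.2.1, hpair.2.2, hpair.vu] at e1 e2
        exact ⟨e1, e2⟩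
      refine Submodule.eq_of_le_of_finrank_eq (Submodule.span_le.2 ?_) ?_
      · rintro _ ⟨i, rfl⟩; fin_cases i
        exacts [hu, hvE]
      · rw [finrank_span_eq_card hLI, Fintype.card_fin, hdE]
    refine ⟨u, v, ε, hpair, hε, hE u hu, hE v hvE, fun w hw => ?_⟩
    obtain ⟨q, hq, n, hn, rfl⟩ := hdec' w
    have hq0 : q = 0 := hsep q hq fun y hy => by
      have key : ∀ z ∈ Submodule.span K (Set.range ![u, v]), c.h q z = 0 := by
        intro z hz
        induction hz using Submodule.span_induction with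
        | mem z hz =>
          obtain ⟨i, rfl⟩ := hz
          have h1 := hw.1
          have h2 := hw.2
          rw [map_add, horth' hu hn, add_zero] at h1
          rw [map_add, horth' hvE hn, add_zero] at h2
          rw [c.symm]
          fin_cases i
          exacts [h1, h2]
        | zero => rw [map_zero]
        | add a b _ _ ha hb => rw [map_add, ha, hb, add_zero]
        | smul k a _ ha => rw [map_smul, ha, smul_zero]
      exact key y (hspan.symm ▸ hy)
    rw [hq0, zero_add, hE' n hn]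
  by_cases hsP : ∃ u ∈ P, u ≠ 0 ∧ c.h u u = 0
  · exact hcase P N 1 (Or.inl rfl) (fun x hx => by rw [hP.1 hx, one_smul])
      (fun x hx => by rw [hN.1 hx, one_smul]) hdP hdec horth hsepP hsP
  by_cases hsN : ∃ u ∈ N, u ≠ 0 ∧ c.h u u = 0
  · exact hcase N P (-1) (Or.inr rfl) (fun x hx => by rw [hN.1 hx, neg_one_smul])
      (fun x hx => by rw [hP.1 hx, neg_one_smul, neg_neg]) hdN
      (fun x => by obtain ⟨p, hp, n, hn, e⟩ := hdec x; exact ⟨n, hn, p, hp, e.trans (add_comm _ _)⟩)
      (fun {x y} hx hy => by rw [c.symm]; exact horth hy hx) hsepN hsN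
  exfalso
  push Not at hsP hsN
  have hval : ∀ E : Submodule K (ι → F), finrank K E = 2 → (∀ x ∈ E, (∀ y ∈ E, c.h x y = 0) → x = 0) →
      ∀ z : K, ∃ x ∈ E, c.h x x = z := by
    intro E hdE hsep z
    let q : QuadraticForm K E := c.h.toQuadraticMap.comp E.subtype
    have hq : ∀ x y : E, QuadraticMap.polar (⇑q) x y = 2 * c.h x y := fun x y => by
      show QuadraticMap.polar (fun z : E => c.h z z) x y = _
      simp only [QuadraticMap.polar, Submodule.coe_add, map_add, LinearMap.add_apply,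
        c.symm (y : ι → F) x]
      ring
    obtain ⟨x, hx⟩ := Forms.exists_quad_value h2K q (fun x hx => Subtype.ext (hsep x x.2 fun y hy => by
      have := hx ⟨y, hy⟩
      rw [hq] at this
      exact (mul_eq_zero.1 this).resolve_left h2K)) (by omega) z
    exact ⟨x, x.2, hx⟩
  obtain ⟨u₁, hu₁, h₁⟩ := hval P hdP hsepP 1
  obtain ⟨u₂, hu₂, h₂⟩ := hval N hdN hsepN (-1)
  have hperp : ∀ E : Submodule K (ι → F), finrank K E = 2 → ∀ u ∈ E, c.h u u ≠ 0 →
      ∃ v ∈ E, c.h u v = 0 ∧ v ≠ 0 := by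
    intro E hdE u hu huu
    let f : E →ₗ[K] K := (c.h u).comp E.subtype
    have hk := LinearMap.finrank_range_add_finrank_ker f
    have hr : finrank K (LinearMap.range f) ≤ 1 := (Submodule.finrank_le _).trans (by rw [Module.finrank_self])
    obtain ⟨⟨v, hv⟩, hvk, hv0⟩ := Submodule.exists_mem_ne_zero_of_ne_bot (p := LinearMap.ker f) fun e => by
      rw [e, finrank_bot, hdE] at hk; omega
    exact ⟨v, hv, hvk, fun e => hv0 (Subtype.ext e)⟩
  obtain ⟨v₁, hv₁, hv₁u, hv₁0⟩ := hperp P hdP u₁ hu₁ (by rw [h₁]; exact one_ne_zero)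
  obtain ⟨v₂, hv₂, hv₂u, hv₂0⟩ := hperp N hdN u₂ hu₂ (by rw [h₂]; exact neg_ne_zero.2 one_ne_zero)
  have hns₁ : ¬ IsSquare (-c.h v₁ v₁) := by
    rintro ⟨s, hs⟩
    refine hsP (s • u₁ + v₁) (P.add_mem (P.smul_mem _ hu₁) hv₁) (fun e => ?_) ?_
    · have := congrArg (c.h v₁) e
      rw [map_add, map_smul, c.symm v₁ u₁, hv₁u, smul_zero, zero_add, map_zero] at this
      exact hsP v₁ hv₁ hv₁0 this
    · simp only [map_add, map_smul, LinearMap.add_apply, LinearMap.smul_apply, smul_eq_mul, h₁, hv₁u,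
        c.symm v₁ u₁]
      linear_combination -hs
  have hns₂ : ¬ IsSquare (c.h v₂ v₂) := by
    rintro ⟨s, hs⟩
    refine hsN (s • u₂ + v₂) (N.add_mem (N.smul_mem _ hu₂) hv₂) (fun e => ?_) ?_
    · have := congrArg (c.h v₂) e
      rw [map_add, map_smul, c.symm v₂ u₂, hv₂u, smul_zero, zero_add, map_zero] at this
      exact hsN v₂ hv₂ hv₂0 this
    · simp only [map_add, map_smul, LinearMap.add_apply, LinearMap.smul_apply, smul_eq_mul, h₂, hv₂u,
        c.symm v₂ u₂]
      linear_combination hs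
  have hv₂2 : c.h v₂ v₂ ≠ 0 := fun e => hns₂ ⟨0, by rw [e, mul_zero]⟩
  obtain ⟨r, hr⟩ : IsSquare ((-c.h v₁ v₁) * (c.h v₂ v₂)) := by
    let _ := Fintype.ofFinite K
    have hKc : ringChar K ≠ 2 := fun h => h2K (by haveI := ringChar.eq_iff.1 h; exact CharTwo.two_eq_zero)
    have ha : -c.h v₁ v₁ ≠ 0 := fun e => hns₁ ⟨0, by rw [e, mul_zero]⟩
    rw [FiniteField.isSquare_iff hKc (mul_ne_zero ha hv₂2), mul_pow,
      (FiniteField.pow_dichotomy hKc ha).resolve_left fun h => hns₁ ((FiniteField.isSquare_iff hKc ha).2 h),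
      (FiniteField.pow_dichotomy hKc hv₂2).resolve_left fun h => hns₂ ((FiniteField.isSquare_iff hKc hv₂2).2 h)]
    ring
  set y := v₁ + (r / c.h v₂ v₂) • v₂ with hy
  obtain ⟨a, ha⟩ := c.noPlane (u₁ + u₂) y
    (fun e => by
      have := congrArg (c.h u₁) e
      rw [map_add, h₁, horth hu₁ hu₂, add_zero, map_zero] at this
      exact one_ne_zero this)
    (by simp [h₁, h₂, horth hu₁ hu₂, c.symm u₂ u₁])
    (by
      simp only [hy, map_add, map_smul, LinearMap.add_apply, LinearMap.smul_apply, smul_eq_mul,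
        horth hv₁ hv₂, c.symm v₂ v₁, mul_zero, zero_add, add_zero]
      field_simp
      linear_combination -hr)
    (by simp [hy, hv₁u, hv₂u, horth hu₁ hv₂, c.symm u₂ v₁, horth hv₁ hu₂])
  have e := congrArg (c.h u₁) ha
  rw [hy, map_add, map_smul, hv₁u, horth hu₁ hv₂, smul_zero, add_zero, map_smul, map_add, h₁,
    horth hu₁ hu₂, add_zero, smul_eq_mul, mul_one] at e
  rw [← e, zero_smul, hy] at ha
  have e2 := congrArg (c.h v₁) ha
  rw [map_add, map_smul, horth hv₁ hv₂, smul_zero, add_zero, map_zero] at e2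
  exact hsP v₁ hv₁ hv₁0 e2

/-- The involutions are conjugate. -/
theorem exists_conj (hneg : ∀ g : Isom Q, (∀ x, mat Q g *ᵥ x = -x) → g ∉ Cfsg.Omega F ⇑Q)
    {M : Subgroup (Isom Q)} (hM : Below K M) {t t' : Isom Q} (ht : t ∈ Cfsg.Omega F ⇑Q)
    (ht' : t' ∈ Cfsg.Omega F ⇑Q) {u v u' v' : ι → F} {ε ε' : K} (hs : c.Splits t u v ε)
    (htl : Lin K t) (hs' : c.Splits t' u' v' ε') (htl' : Lin K t') :
    ∃ g ∈ M, g ∈ Cfsg.Omega F ⇑Q ∧ Lin K g ∧ g * t * g⁻¹ = t' := by
  obtain ⟨hp, hε, htu, htv, htw⟩ := hs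
  obtain ⟨hp', hε', htu', htv', htw'⟩ := hs'
  obtain ⟨g, hgM, hgl, hgΩ, a, ha, hgu, hgv⟩ := c.exists_map_pair hM hp hp'
  refine ⟨g, hgM, hgΩ, hgl, ?_⟩
  set s := g * t * g⁻¹
  have hsl : Lin K s := (hgl.mul htl).mul hgl.inv
  have hsu : mat Q s *ᵥ u' = ε • u' := by
    have e : mat Q g⁻¹ *ᵥ u' = a⁻¹ • u := (mulVec_eq_iff g).1 (by
      rw [mulVec_inv_cancel, hgl, hgu, inv_smul_smul₀ ha])
    rw [mat_mul, mat_mul, ← mulVec_mulVec, ← mulVec_mulVec, e, htl, htu, hgl, hgl, hgu, smul_smul, smul_smul]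
    congr 1
    field_simp
  have hsv : mat Q s *ᵥ v' = ε • v' := by
    have e : mat Q g⁻¹ *ᵥ v' = a • v := (mulVec_eq_iff g).1 (by
      rw [mulVec_inv_cancel, hgl, hgv, smul_inv_smul₀ ha])
    rw [mat_mul, mat_mul, ← mulVec_mulVec, ← mulVec_mulVec, e, htl, htv, hgl, hgl, hgv, smul_smul, smul_smul]
    congr 1
    field_simp
  have hsw : ∀ w, c.Rest u' v' w → mat Q s *ᵥ w = -(ε • w) := fun w hw => by
    have hR : c.Rest u v (mat Q g⁻¹ *ᵥ w) := by
      constructor
      · rw [← c.h_map hgl, mulVec_inv_cancel, hgu, LinearMap.map_smul₂, hw.1, smul_zero]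
      · rw [← c.h_map hgl, mulVec_inv_cancel, hgv, LinearMap.map_smul₂, hw.2, smul_zero]
    rw [mat_mul, mat_mul, ← mulVec_mulVec, ← mulVec_mulVec, htw _ hR, mulVec_neg, hgl, mulVec_inv_cancel]
  rcases eq_or_ne ε ε' with rfl | hne
  · refine isom_ext fun x => ?_
    rw [c.decomp u' v' x, mulVec_add, mulVec_add, mulVec_add, mulVec_add, hsl, hsl, htl', htl', hsu, hsv,
      htu', htv', hsw _ (hp'.rest_spec x), htw' _ (hp'.rest_spec x)]
  · exfalso
    have hee : ε' = -ε := by
      rcases hε with rfl | rfl <;> rcases hε' with rfl | rfl <;> first | exact absurd rfl hne | simp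
    have hsq : ε * ε = 1 := by rcases hε with rfl | rfl <;> ring
    refine hneg (s * t') (fun x => ?_)
      (mul_mem (mul_mem (mul_mem hgΩ ht) (inv_mem hgΩ)) ht')
    rw [c.decomp u' v' x, mat_mul, ← mulVec_mulVec]
    simp only [mulVec_add, htl' _ u', htl' _ v', htu', htv', htw' _ (hp'.rest_spec x), mulVec_neg,
      hsl _ u', hsl _ v', hsl _ (c.rest u' v' x), hsu, hsv, hsw _ (hp'.rest_spec x)]
    rw [hee]
    simp only [neg_smul, smul_neg, mulVec_neg, hsl _ u', hsl _ v', hsu, hsv, smul_smul, mul_assoc, smul_neg, neg_neg, mul_neg, neg_mul, hsq, one_smul, neg_smul, mul_one]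
    abel

/-- An involution exists. -/
theorem exists_invol (hneg : ∀ g : Isom Q, (∀ x, mat Q g *ᵥ x = -x) → g ∉ Cfsg.Omega F ⇑Q)
    {M : Subgroup (Isom Q)} (hM : Below K M) :
    ∃ t ∈ M, t ∈ Cfsg.Omega F ⇑Q ∧ Lin K t ∧ t * t = 1 ∧ t ≠ 1 := by
  obtain ⟨u, v, hp⟩ := c.exists_pair
  obtain ⟨g, hgM, hgl, hgΩ, a, ha, hgu, hgv⟩ := c.exists_map_pair hM hp hp.symm
  have hgg : mat Q (g * g) *ᵥ u = u := by
    rw [mat_mul, ← mulVec_mulVec, hgu, hgl, hgv, smul_inv_smul₀ ha]
  have hpow : ∀ i, mat Q ((g * g) ^ i) *ᵥ u = u := fun i => by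
    induction i with
    | zero => simp [mat_one]
    | succ i ih => rw [pow_succ, mat_mul, ← mulVec_mulVec, hgg, ih]
  have := c.finite
  have : Finite (Isom Q) := inferInstance
  have hev : 2 ∣ orderOf g := by
    by_contra h
    obtain ⟨i, hi⟩ : ∃ i, orderOf g = 2 * i + 1 := ⟨orderOf g / 2, by omega⟩
    have e : mat Q (g ^ (2 * i + 1)) *ᵥ u = u := by rw [← hi, pow_orderOf_eq_one, mat_one, one_mulVec]
    rw [pow_succ', pow_mul, sq, mat_mul, ← mulVec_mulVec, hpow, hgu] at e
    have := congrArg (c.h u) e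
    rw [map_smul, hp.2.2, hp.1, smul_eq_mul, mul_one] at this
    exact ha this
  obtain ⟨i, hi⟩ := hev
  have hli : ∀ j : ℕ, Lin K (g ^ j) := fun j => by
    induction j with
    | zero => intro k x; rw [pow_zero, mat_one, one_mulVec, one_mulVec]
    | succ j ih => rw [pow_succ]; exact ih.mul hgl
  have hi0 : 0 < i := by
    have := orderOf_pos g
    omega
  refine ⟨g ^ i, M.pow_mem hgM i, pow_mem hgΩ i, hli i, ?_, fun h => ?_⟩
  · rw [← pow_add, ← two_mul, ← hi, pow_orderOf_eq_one]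
  · have := Nat.le_of_dvd hi0 (orderOf_dvd_of_pow_eq_one h)
    omega

end Cubic

end CfsgLib.OrthCubic
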