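import Cfsg.Agent.OrthCubic.Radical

/-!
# Stabilisers of singular lines normalise the field

`norm_of_line`: without elements fixing the orthogonal of a singular line, a member mapping some singular
line onto another normalises the field.
-/

set_option autoImplicit false
set_option linter.unusedSectionVars false
set_option maxHeartbeats 1000000

namespace CfsgLib.OrthCubic

open Matrix Module CfsgLib.Spinor CfsgLib.OrthMax

variable {F : Type*} [Field F] [Fintype F] {ι : Type} [Fintype ι] [DecidableEq ι]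
  {Q : QuadraticForm F (ι → F)}
variable {K : Type*} [Field K] [Algebra F K] [Module K (ι → F)] [IsScalarTower F K (ι → F)]

namespace Cubic

variable (c : Cubic Q K)
include c
variable {M : Subgroup (Isom Q)}

theorem mulVec_algebra (g : Isom Q) (t : F) (x : ι → F) :
    mat Q g *ᵥ (algebraMap F K t • x) = algebraMap F K t • (mat Q g *ᵥ x) := by
  rw [algebraMap_smul, algebraMap_smul, mulVec_smul]

/-- Stabilising the line. -/
theorem norm_of_stab (hM : Below K M) {u v : ι → F} (hp : c.Pair u v) (hz : c.NoZ M u) {x : Isom Q}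
    (hx : x ∈ M) (hline : ∀ k : K, ∃ l : K, mat Q x *ᵥ (k • u) = l • u) : Norm K x := by
  have := c.finite
  have := c.fdF
  choose a ha using hline
  have hu0 := hp.left_ne
  have ha_add : ∀ k l, a (k + l) = a k + a l := fun k l => smul_left_injective K hu0
    (by simp only; rw [← ha, add_smul, mulVec_add, ha, ha, add_smul])
  have ha_F : ∀ (t : F) k, a (algebraMap F K t * k) = algebraMap F K t * a k := fun t k =>
    smul_left_injective K hu0 (by
      simp only; rw [← ha, mul_smul, c.mulVec_algebra, ha, mul_smul])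
  have ha_inj : Function.Injective a := fun k l e =>
    smul_left_injective K hu0 ((mulVec_eq_iff x).1 (by rw [ha, ha, e]))
  have ha_surj : Function.Surjective a := Finite.injective_iff_surjective.1 ha_inj
  have ha0 : a 0 = 0 := smul_left_injective K hu0 (by simpa using (ha 0).symm)
  have hainv : ∀ k : K, ∃ l, mat Q x⁻¹ *ᵥ (k • u) = l • u := fun k => by
    obtain ⟨l, rfl⟩ := ha_surj k
    exact ⟨l, by rw [← ha, inv_mulVec_cancel]⟩
  have hperp : ∀ (g : Isom Q), (∀ k : K, ∃ l : K, mat Q g *ᵥ (k • u) = l • u) → ∀ y, c.h u y = 0 →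
      c.h u (mat Q g *ᵥ y) = 0 := by
    intro g hg y hy
    refine c.h_eq_zero_of_polar fun k => ?_
    obtain ⟨l, hl⟩ : ∃ l : K, mat Q g⁻¹ *ᵥ (k • u) = l • u := by
      choose b hb using hg
      have hbi : Function.Injective b := fun s t e =>
        smul_left_injective K hu0 ((mulVec_eq_iff g).1 (by rw [hb, hb, e]))
      obtain ⟨l, rfl⟩ := Finite.injective_iff_surjective.1 hbi k
      exact ⟨l, by rw [← hb, inv_mulVec_cancel]⟩
    conv_lhs => arg 2; rw [← mulVec_inv_cancel g (k • u), hl]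
    rw [polar_mulVec, c.tr, LinearMap.map_smul₂, hy, smul_zero, map_zero]
  have hxperp := hperp x fun k => ⟨_, ha k⟩
  -- conjugation keeps the radical
  have hconj : ∀ r : Isom Q, c.IsRad u v r → c.IsRad u v (x * r * x⁻¹) := by
    intro r hr
    refine ⟨fun k => ?_, fun w hw => ?_⟩
    · obtain ⟨l, hl⟩ := hainv k
      rw [mat_mul, mat_mul, ← mulVec_mulVec, ← mulVec_mulVec, hl, hr.1, ← hl, mulVec_inv_cancel]
    · obtain ⟨b, hb⟩ := hr.on_left c (hperp x⁻¹ hainv w hw.1) hp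
      exact ⟨a b, by rw [mat_mul, mat_mul, ← mulVec_mulVec, ← mulVec_mulVec, hb, mulVec_add,
        mulVec_inv_cancel, ha]⟩
  -- Eichler elements go to Eichler elements
  have hE : ∀ w, c.Rest u v w → ∃ w', c.Rest u v w' ∧
      ∀ y, mat Q x *ᵥ c.eK u w y = c.eK u w' (mat Q x *ᵥ y) := by
    intro w hw
    obtain ⟨e, heM, -, -, he⟩ := c.exists_eK hM hp.1 hw.1
    have hrad : c.IsRad u v e := ⟨fun k => by rw [he, map_smul, c.eK_self hp.1 hw.1],
      fun y hy => ⟨-c.h w y, by rw [he, c.eK_rest hw hy, neg_smul, sub_eq_add_neg]⟩⟩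
    obtain ⟨w', hw', hw''⟩ := c.lin_of_isRad hM hp hz (M.mul_mem (M.mul_mem hx heM) (M.inv_mem hx))
      (hconj e hrad)
    refine ⟨w', hw', fun y => ?_⟩
    rw [← hw'', mat_mul, mat_mul, ← mulVec_mulVec, ← mulVec_mulVec, inv_mulVec_cancel, he]
  choose β hβR hβ using hE
  set b : (ι → F) → (ι → F) := fun y => c.rest u v (mat Q x *ᵥ y) with hbdef
  have hbR : ∀ y, c.Rest u v (b y) := fun y => hp.rest_spec _
  have hrest_w : ∀ {w}, c.Rest u v w → c.h w u = 0 ∧ c.h w v = 0 := fun {w} hw =>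
    ⟨by rw [c.symm, hw.1], by rw [c.symm, hw.2]⟩
  have key : ∀ w (hw : c.Rest u v w) y, c.Rest u v y → c.h (β w hw) (b y) = a (c.h w y) := by
    intro w hw y hy
    have e := hβ w hw y
    have hxy := hxperp y hy.1
    rw [c.eK_rest hw hy, mulVec_sub, ha, eK_apply, hxy, zero_smul, mul_zero, zero_smul, sub_zero,
      zero_sub, ← sub_eq_add_neg, sub_right_inj] at e
    have h1 : a (c.h w y) = c.h (β w hw) (mat Q x *ᵥ y) := smul_left_injective K hu0 e
    rw [h1]
    conv_rhs => rw [c.decomp_left (v := v) hxy]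
    simp [hbdef, (hrest_w (hβR w hw)).1]
  obtain ⟨e₁, he₁, he₁0⟩ := hp.exists_rest
  obtain ⟨e₂, he₂, he₂0, he12⟩ := c.exists_perp_rest hp he₁ he₁0
  have hd : c.h e₁ e₁ ≠ 0 := hp.aniso he₁ he₁0
  set d := c.h e₁ e₁
  have hd₂ : c.h e₂ e₂ ≠ 0 := hp.aniso he₂ he₂0
  set f := b e₁ with hf
  set g := β e₁ he₁ with hg
  have hC : c.h g f = a d := key e₁ he₁ e₁ he₁
  have haz : ∀ {k}, k ≠ 0 → a k ≠ 0 := fun {k} hk e => hk (ha_inj (e.trans ha0.symm))
  have hf0 : f ≠ 0 := fun e => haz hd (by rw [← hC, e, map_zero])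
  have hg0 : g ≠ 0 := fun e => haz hd (by rw [← hC, e, map_zero, LinearMap.zero_apply])
  have hb2 : b e₂ ≠ 0 := fun e => haz hd₂ (by rw [← key e₂ he₂ e₂ he₂, e, map_zero])
  have hβ2 : β e₂ he₂ ≠ 0 := fun e => haz hd₂ (by rw [← key e₂ he₂ e₂ he₂, e, map_zero, LinearMap.zero_apply])
  have he21 : c.h e₂ e₁ = 0 := by rw [c.symm, he12]
  have hRs : ∀ k : K, ∀ {w}, c.Rest u v w → c.Rest u v (k • w) := fun k {w} hw =>
    ⟨by rw [map_smul, hw.1, smul_zero], by rw [map_smul, hw.2, smul_zero]⟩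
  have hP : ∀ k : K, ∃ P : K, b (k • e₁) = P • f := fun k =>
    c.perp_line hp (hβR e₂ he₂) hβ2 (hbR _) hf0 (by rw [hf, key e₂ he₂ e₁ he₁, he21, ha0]) (hbR _)
      (by rw [key e₂ he₂ _ (hRs k he₁), map_smul, he21, smul_zero, ha0])
  choose P hP using hP
  have hR' : ∀ l : K, ∃ R : K, β (l • e₁) (hRs l he₁) = R • g := fun l =>
    c.perp_line hp (hbR e₂) hb2 (hβR e₁ he₁) hg0
      (by rw [c.symm, key e₁ he₁ e₂ he₂, he12, ha0]) (hβR _ _)
      (by rw [c.symm, key _ (hRs l he₁) e₂ he₂, LinearMap.map_smul₂, he12, smul_zero, ha0])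
  choose R hR' using hR'
  have hprod : ∀ k l : K, a (k * (l * d)) = P k * (R l * a d) := by
    intro k l
    have e := key _ (hRs l he₁) _ (hRs k he₁)
    rw [hP, hR', LinearMap.map_smul₂, map_smul, map_smul, LinearMap.map_smul₂, hC] at e
    simp only [smul_eq_mul] at e
    rw [show k * (l * d) = k * (l * c.h e₁ e₁) from rfl, ← e]
    ring
  have hP1 : P 1 = 1 := smul_left_injective K hf0 (by simp only; rw [← hP, one_smul, one_smul])
  have hR1 : R 1 = 1 := smul_left_injective K hg0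
    (by
      have hcong : ∀ (w : ι → F) (hw : c.Rest u v w), w = e₁ → β w hw = g := by
        rintro w hw rfl; rfl
      simp only; rw [← hR', hcong _ _ (one_smul K e₁), one_smul])
  have hPd : ∀ k, a (k * d) = P k * a d := fun k => by
    have := hprod k 1
    rwa [one_mul, hR1, one_mul] at this
  have hRP : ∀ l, R l = P l := fun l => mul_right_cancel₀ (haz hd) (by
    rw [← hPd, ← one_mul (R l * a d), ← hP1, ← hprod, one_mul])
  have hPmul : ∀ k l, P (k * l) = P k * P l := fun k l => mul_right_cancel₀ (haz hd) (by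
    rw [← hPd, mul_assoc, hprod, hRP, mul_assoc])
  have hPadd : ∀ k l, P (k + l) = P k + P l := fun k l => mul_right_cancel₀ (haz hd) (by
    rw [← hPd, add_mul, ha_add, hPd, hPd, add_mul])
  have hPF : ∀ t : F, P (algebraMap F K t) = algebraMap F K t := fun t => mul_right_cancel₀ (haz hd) (by
    rw [← hPd, ha_F])
  have hPinj : Function.Injective P := fun k l e => mul_right_cancel₀ hd (ha_inj (by rw [hPd, hPd, e]))
  let σh : K →ₐ[F] K :=
    { toFun := P
      map_one' := hP1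
      map_mul' := hPmul
      map_zero' := by simpa using hPF 0
      map_add' := hPadd
      commutes' := hPF }
  let σ : K ≃ₐ[F] K := AlgEquiv.ofBijective σh (Finite.injective_iff_bijective.1 hPinj)
  have hσ : ∀ k, σ k = P k := fun _ => rfl
  have hamul : ∀ k l, a (k * l) = σ k * a l := fun k l => by
    obtain ⟨l', rfl⟩ : ∃ l', l = l' * d := ⟨l / d, by field_simp⟩
    rw [hσ, ← mul_assoc, hPd, hPmul, hPd, mul_assoc]
  -- semilinearity on the rest modulo the line
  have hb : ∀ (k : K) y, c.Rest u v y → b (k • y) = σ k • b y := by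
    intro k y hy
    set z := b (k • y) - σ k • b y with hzdef
    have hzR : c.Rest u v z :=
      ⟨by simp [hzdef, (hbR (k • y)).1, (hbR y).1], by simp [hzdef, (hbR (k • y)).2, (hbR y).2]⟩
    have hort : ∀ w (hw : c.Rest u v w), c.h (β w hw) z = 0 := fun w hw => by
      rw [hzdef, map_sub, map_smul, key w hw _ (hRs k hy), key w hw y hy, map_smul, smul_eq_mul, smul_eq_mul,
        hamul, sub_self]
    obtain ⟨m, hm⟩ := c.perp_line hp (hβR e₂ he₂) hβ2 (hbR e₁) hf0 (by rw [key e₂ he₂ e₁ he₁, he21, ha0])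
      hzR (hort e₂ he₂)
    have h0 := hort e₁ he₁
    rw [hm, map_smul, hC, smul_eq_mul, mul_eq_zero] at h0
    exact sub_eq_zero.1 (hm.trans (by rw [h0.resolve_right (haz hd), zero_smul]))
  -- the torus
  obtain ⟨l₀, hl₀, hl₀4⟩ := c.exists_good_square
  set k := l₀ * l₀ with hk
  have hk0 : k ≠ 0 := mul_ne_zero hl₀ hl₀
  have hk2 : k * k ≠ 1 := hl₀4
  obtain ⟨τ, hτM, -, hτ⟩ := c.exists_tor hM hp hl₀
  obtain ⟨τ', hτ'M, -, hτ'⟩ := c.exists_tor hM hp (l := σ l₀) (by simpa using hl₀)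
  rw [← map_mul, ← hk] at hτ'
  have hk1 : k ≠ 1 := fun e => hk2 (by rw [e, one_mul])
  have hσk0 : σ k ≠ 0 := by simpa using hk0
  have hσk1 : σ k ≠ 1 := fun e => hk1 (σ.injective (by rw [e, map_one]))
  have hτ'i := hτ'.inv c hp hσk0
  have hrad : c.IsRad u v (τ'⁻¹ * (x * τ * x⁻¹)) := by
    refine ⟨fun m => ?_, fun w hw => ?_⟩
    · obtain ⟨l, rfl⟩ := ha_surj m
      have e : mat Q x⁻¹ *ᵥ (a l • u) = l • u := by rw [← ha, inv_mulVec_cancel]
      rw [mat_mul, mat_mul, mat_mul, ← mulVec_mulVec, ← mulVec_mulVec, ← mulVec_mulVec, e,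
        hτ.apply_left c hp, ha, hamul, hτ'i.apply_left c hp, ← mul_assoc, inv_mul_cancel₀ hσk0, one_mul]
    · have hy := hperp x⁻¹ hainv w hw.1
      set y := mat Q x⁻¹ *ᵥ w with hydef
      have e : mat Q τ *ᵥ y = y + ((k - 1) * c.h v y) • u := by
        rw [hτ, torMap_apply, hy, mul_zero, zero_smul, add_zero]
      refine ⟨(σ k)⁻¹ * a ((k - 1) * c.h v y), ?_⟩
      rw [mat_mul, mat_mul, mat_mul, ← mulVec_mulVec, ← mulVec_mulVec, ← mulVec_mulVec, ← hydef, e,
        mulVec_add, ha, hydef, mulVec_inv_cancel, mulVec_add, hτ'i.apply_rest c hw, hτ'i.apply_left c hp]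
  obtain ⟨w₀, hw₀, hw₀'⟩ := c.lin_of_isRad hM hp hz
    (M.mul_mem (M.inv_mem hτ'M) (M.mul_mem (M.mul_mem hx hτM) (M.inv_mem hx))) hrad
  -- straighten
  set m := (σ k)⁻¹ - 1 with hmdef
  have hm0 : m ≠ 0 := fun e => hσk1 (inv_eq_one.1 (sub_eq_zero.1 e))
  obtain ⟨w₁, hw₁, hw₁0⟩ : ∃ w₁, c.Rest u v w₁ ∧ (σ k)⁻¹ • w₁ = w₀ + w₁ :=
    ⟨m⁻¹ • w₀, hRs _ hw₀, by
      have h1 : m • (m⁻¹ • w₀) = w₀ := smul_inv_smul₀ hm0 _
      have h2 : (σ k)⁻¹ = m + 1 := by rw [hmdef, sub_add_cancel]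
      rw [h2, add_smul, h1, one_smul]⟩
  obtain ⟨E, hEM, hEl, hEΩ, hE'⟩ := c.exists_eK hM hp.1 hw₁.1
  set x' := E⁻¹ * x with hx'
  have hcomm : ∀ y, mat Q τ' *ᵥ (mat Q x' *ᵥ y) = mat Q x' *ᵥ (mat Q τ *ᵥ y) := by
    intro y
    have e1 : mat Q x *ᵥ (mat Q τ *ᵥ y) = mat Q τ' *ᵥ c.eK u w₀ (mat Q x *ᵥ y) := by
      rw [← hw₀', mat_mul, mat_mul, mat_mul, ← mulVec_mulVec, ← mulVec_mulVec, ← mulVec_mulVec,
        inv_mulVec_cancel, mulVec_inv_cancel]
    have e2 : ∀ z, c.eK u w₁ (mat Q τ' *ᵥ z) = mat Q τ' *ᵥ c.eK u ((σ k)⁻¹ • w₁) z := by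
      intro z
      have hq : c.q ((σ k)⁻¹ • w₁) = (σ k)⁻¹ * (σ k)⁻¹ * c.q w₁ := by
        simp only [q, map_smul, LinearMap.smul_apply, smul_eq_mul]; ring
      rw [hτ', hτ']
      simp only [eK_apply, torMap_apply, map_add, map_sub, map_smul, LinearMap.add_apply,
        LinearMap.sub_apply, LinearMap.smul_apply, smul_eq_mul, hp.1, hp.2.1, hp.2.2, hp.vu, hw₁.1, hw₁.2,
        (hrest_w hw₁).1, (hrest_w hw₁).2, hq]
      match_scalars <;> field_simp <;> ring
    refine (mulVec_eq_iff E).1 ?_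
    simp only [hx', mat_mul, ← mulVec_mulVec]
    rw [hE', hE', e2, ← hE' (mat Q E⁻¹ *ᵥ _), mulVec_inv_cancel, e1]
    congr 1
    rw [hw₁0, ← c.eK_mul hp.1 hw₀.1 hw₁.1, ← hE' (mat Q E⁻¹ *ᵥ _), mulVec_inv_cancel]
  have hxu : ∀ l, mat Q x' *ᵥ (l • u) = a l • u := fun l => by
    refine (mulVec_eq_iff E).1 ?_
    rw [hx', mat_mul, ← mulVec_mulVec, mulVec_inv_cancel, ha, hE', map_smul, c.eK_self hp.1 hw₁.1]
  have hxW : ∀ w, c.Rest u v w → mat Q x' *ᵥ w = b w := by
    intro w hw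
    have h1 := hcomm w
    rw [hτ.apply_rest c hw, hτ', torMap_apply, add_assoc, add_eq_left] at h1
    have e1 := congrArg (c.h v) h1
    have e2 := congrArg (c.h u) h1
    simp only [map_add, map_smul, map_zero, smul_eq_mul, hp.1, hp.2.1, hp.2.2, hp.vu, mul_zero, add_zero,
      zero_add, mul_one, mul_eq_zero, sub_eq_zero] at e1 e2
    have hR : mat Q x' *ᵥ w = c.rest u v (mat Q x' *ᵥ w) := by
      conv_lhs => rw [c.decomp u v (mat Q x' *ᵥ w), e1.resolve_left hσk1,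
        e2.resolve_left (fun e => hσk1 (inv_eq_one.1 e)), zero_smul, zero_smul, zero_add, zero_add]
    have hxw := hxperp w hw.1
    have h2 : mat Q x *ᵥ w = c.eK u w₁ (mat Q x' *ᵥ w) := by
      rw [← hE', hx', mat_mul, ← mulVec_mulVec, mulVec_inv_cancel]
    rw [hR, hbdef]
    have hRR := hp.rest_spec (mat Q x' *ᵥ w)
    set z := c.rest u v (mat Q x' *ᵥ w) with hzdef
    show z = c.rest u v (mat Q x *ᵥ w)
    rw [h2, hR, c.eK_rest hw₁ hRR, rest]
    simp [hp.1, hp.vu, hRR.1, hRR.2]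
  let X : (ι → F) →ₗ[F] (ι → F) := Matrix.toLin' (mat Q x')
  let A : K →ₗ[F] K :=
    ((c.h v).restrictScalars F) ∘ₗ X ∘ₗ (LinearMap.toSpanSingleton K (ι → F) v).restrictScalars F
  have hA : ∀ l, A l = c.h v (mat Q x' *ᵥ (l • v)) := fun l => by simp [A, X]
  -- the partner line
  have hτv : ∀ l : K, mat Q x' *ᵥ ((k⁻¹ * l) • v) = mat Q τ' *ᵥ (mat Q x' *ᵥ (l • v)) := fun l => by
    rw [hcomm, hτ.apply_right c hp]
  have hAz : A = 0 := by
    refine c.intertwine_eq_zero (k := k⁻¹) (k' := σ k) (fun e he => ?_) fun l => ?_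
    · rw [map_inv₀] at he
      have h1 : (e.trans σ.symm) k = k⁻¹ := by
        rw [AlgEquiv.trans_apply, ← inv_inv (e k), he, map_inv₀, AlgEquiv.symm_apply_apply]
      exact hk2 (c.sq_eq_one_of_inv _ hk0 h1)
    · rw [hA, hA, hτv, hτ', torMap_apply]
      simp [hp.2.1, hp.vu]
      ring
  let G : K →ₗ[F] (ι → F) :=
    X ∘ₗ (LinearMap.toSpanSingleton K (ι → F) v).restrictScalars F
  have hrestv : ∀ l : K, c.rest u v (mat Q x' *ᵥ (l • v)) = 0 := by
    intro l
    obtain ⟨l', rfl⟩ : ∃ l', l = (k⁻¹ - 1) * l' :=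
      ⟨l / (k⁻¹ - 1), by rw [mul_div_cancel₀]; exact sub_ne_zero.2 fun e => hk1 (inv_eq_one.1 e)⟩
    rw [sub_mul, one_mul, sub_smul, mulVec_sub, hτv]
    set Y := mat Q x' *ᵥ (l' • v)
    rw [hτ', rest]
    simp only [torMap_apply, map_add, map_sub, map_smul, smul_eq_mul, hp.1, hp.2.1, hp.2.2, hp.vu]
    module
  have hBv : ∀ l : K, mat Q x' *ᵥ (l • v) = c.h u (mat Q x' *ᵥ (l • v)) • v := fun l => by
    conv_lhs => rw [c.decomp u v (mat Q x' *ᵥ (l • v)), hrestv, ← hA, hAz, LinearMap.zero_apply, zero_smul,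
      zero_add, add_zero]
  have hB : ∀ l : K, a 1 * c.h u (mat Q x' *ᵥ (l • v)) = σ l := by
    intro l
    refine c.h_eq_of_trace fun m => ?_
    have := polar_mulVec Q x' (σ.symm m • u) (l • v)
    rw [hxu, c.tr, c.tr, LinearMap.map_smul₂, LinearMap.map_smul₂, map_smul (c.h u), hp.2.2] at this
    simp only [smul_eq_mul, mul_one] at this
    have e : a (σ.symm m) = m * a 1 := by rw [← mul_one (σ.symm m), hamul, AlgEquiv.apply_symm_apply]
    rw [← mul_assoc, ← e, this, ← Algebra.trace_eq_of_algEquiv σ.symm (m * σ l)]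
    congr 1
    rw [map_mul σ.symm, AlgEquiv.symm_apply_apply]
  have ha1 : a 1 ≠ 0 := haz one_ne_zero
  have hnorm : Norm K x' := by
    intro t
    refine ⟨σ t, fun y => ?_⟩
    set p := c.h v y
    set q := c.h u y
    have hy : y = p • u + q • v + c.rest u v y := c.decomp u v y
    have hty : t • y = (t * p) • u + (t * q) • v + t • c.rest u v y := by
      conv_lhs => rw [hy, smul_add, smul_add, ← mul_smul, ← mul_smul]
    have hR := hp.rest_spec y
    conv_rhs => rw [hy, mulVec_add, mulVec_add, hxu, hBv, hxW _ hR]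
    rw [hty, mulVec_add, mulVec_add, hxu, hBv, hxW _ (hRs t hR), hb t _ hR, hamul, smul_add, smul_add,
      ← mul_smul, ← mul_smul]
    congr 3
    refine mul_left_cancel₀ ha1 ?_
    rw [hB, mul_left_comm, hB, map_mul]
  have := hEl.norm.mul hnorm
  rwa [hx', mul_inv_cancel_left] at this

/-- Mapping one singular line onto another. -/
theorem norm_of_line (hM : Below K M) {u : ι → F} (hu : c.h u u = 0) (hu0 : u ≠ 0) (hz : c.NoZ M u)
    {x : Isom Q} (hx : x ∈ M) {u₁ u₂ : ι → F} (h₁ : c.h u₁ u₁ = 0) (h₁0 : u₁ ≠ 0) (h₂ : c.h u₂ u₂ = 0)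
    (hline : ∀ k : K, ∃ l : K, mat Q x *ᵥ (k • u₁) = l • u₂) : Norm K x := by
  have := c.finite
  have := c.nontrivial'
  have h₂0 : u₂ ≠ 0 := fun e => by
    obtain ⟨l, hl⟩ := hline 1
    rw [e, smul_zero, one_smul] at hl
    exact mulVec_ne_zero x h₁0 hl
  obtain ⟨g, hgM, hgl, -, a, -, hga⟩ := c.exists_map_line hM hu hu0 h₁ h₁0
  obtain ⟨g', hg'M, hg'l, -, b, -, hgb⟩ := c.exists_map_line hM h₂ h₂0 hu hu0
  obtain ⟨v, hp⟩ := c.exists_pair_of_singular hu hu0
  have hn := c.norm_of_stab hM hp hz (M.mul_mem (M.mul_mem hg'M hx) hgM) fun k => by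
    obtain ⟨l, hl⟩ := hline (k * a)
    exact ⟨l * b, by rw [mat_mul, mat_mul, ← mulVec_mulVec, ← mulVec_mulVec, hgl, hga, ← mul_smul, hl,
      hg'l, hgb, mul_smul]⟩
  have := (hg'l.inv.norm.mul hn).mul hgl.inv.norm
  rwa [mul_assoc g' x g, inv_mul_cancel_left, mul_inv_cancel_right] at this

end Cubic

end CfsgLib.OrthCubic
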