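import Cfsg.Agent.OrthCubic.Fixer
import Cfsg.Agent.OrthCubic.Line
import Cfsg.Agent.OrthCubic.Roots
import Cfsg.Agent.SEmbed.Cosets

/-!
# Normalisers of self-adjoint cubic fields are maximal in `Ω⁻₁₂(q)`

The normaliser is strongly embedded in any larger subgroup not containing `Ω`; the two point stabilisers then
contain elements of order `p` commuting with the field, whose radical lines are carried to each other.
-/

set_option autoImplicit false
set_option linter.unusedSectionVars false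
set_option maxHeartbeats 1000000

namespace CfsgLib.OrthCubic

open Matrix Module CfsgLib.Spinor CfsgLib.OrthMax

variable {F : Type*} [Field F] [Fintype F] {ι : Type} [Fintype ι] [DecidableEq ι]
  {Q : QuadraticForm F (ι → F)}
variable {K : Type*} [Field K] [Algebra F K] [Module K (ι → F)] [IsScalarTower F K (ι → F)]

/-- Fixed and moved into. -/
def InRad (g : Isom Q) (a : ι → F) : Prop := mat Q g *ᵥ a = a ∧ ∃ z, a = mat Q g *ᵥ z - z

/-- The involutions of a strongly embedded subgroup are conjugate under its meet with a conjugate. -/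
theorem exists_conj_inf {G : Type*} [Group G] [Finite G] {H : Subgroup G} (hse : Cfsg.IsStronglyEmbedded H) {g : G}
    (hg : g ∉ H) {s t : G} (hs : orderOf s = 2 ∧ s ∈ H) (ht : orderOf t = 2 ∧ t ∈ H) :
    ∃ d ∈ H ⊓ H.map (MulAut.conj g).toMonoidHom, d * s * d⁻¹ = t := by
  have hxy : ((1 : G) : G ⧸ H) ≠ (g : G ⧸ H) := fun e => hg (by simpa using QuotientGroup.eq.1 e)
  obtain ⟨d, hd, he⟩ := SEmbed.exists_conj_fix (SEmbed.uniqueFix hse) hxy (s := s) (t := t)
    (by rw [SEmbed.invMap_one]; exact hs) (by rw [SEmbed.invMap_one]; exact ht)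
  rw [SEmbed.pairStab_one] at hd
  exact ⟨d, hd, he⟩

namespace Cubic

variable (c : Cubic Q K)
include c

/-- The automorphism of a member normalising the field. -/
theorem exists_semilinear {g : Isom Q} (hg : Norm K g) :
    ∃ σ : K ≃ₐ[F] K, ∀ (k : K) x, mat Q g *ᵥ (k • x) = σ k • (mat Q g *ᵥ x) := by
  have := c.finite
  choose σ hσ using hg
  obtain ⟨u, hu, -⟩ := c.exists_singular
  have hu' := mulVec_ne_zero g hu
  have hfun : ∀ k k', mat Q g *ᵥ (k • u) = k' • (mat Q g *ᵥ u) → σ k = k' := fun k k' e =>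
    smul_left_injective K hu' ((hσ k u).symm.trans e)
  let σh : K →ₐ[F] K :=
    { toFun := σ
      map_one' := hfun 1 1 (by rw [one_smul, one_smul])
      map_mul' := fun a b => hfun _ _ (by rw [mul_smul, hσ, hσ, mul_smul])
      map_zero' := hfun 0 0 (by rw [zero_smul, zero_smul, mulVec_zero])
      map_add' := fun a b => hfun _ _ (by rw [add_smul, mulVec_add, hσ, hσ, add_smul])
      commutes' := fun t => hfun _ _ (by rw [algebraMap_smul, algebraMap_smul, mulVec_smul]) }
  exact ⟨AlgEquiv.ofBijective σh (Finite.injective_iff_bijective.1 σh.toRingHom.injective), hσ⟩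

/-- Involutions normalising the field commute with it. -/
theorem lin_of_invol {g : Isom Q} (hg : Norm K g) (h2 : g * g = 1) : Lin K g := by
  obtain ⟨σ, hσ⟩ := c.exists_semilinear hg
  obtain ⟨u, hu, -⟩ := c.exists_singular
  intro k x
  have h1 : σ (σ k) = k := by
    refine smul_left_injective K hu ?_
    have e : mat Q g *ᵥ (mat Q g *ᵥ (k • u)) = k • u := by
      rw [mulVec_mulVec, ← mat_mul, h2, mat_one, one_mulVec]
    rw [hσ, hσ, mulVec_mulVec, ← mat_mul, h2, mat_one, one_mulVec] at e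
    exact e
  have h3 := c.aut_cube σ k
  rw [h1] at h3
  rw [hσ, h3]

/-- Non-trivial unipotent members commuting with the field have a non-zero radical vector. -/
theorem exists_inRad {p : ℕ} [Fact p.Prime] [CharP F p] {g : Isom Q} (hg : g ^ p = 1) (hg1 : g ≠ 1) :
    ∃ a, a ≠ 0 ∧ InRad g a := by
  classical
  set n : Module.End F (ι → F) := Matrix.toLinAlgEquiv' (mat Q g) - 1 with hn
  have hne : Nontrivial (ι → F) := c.nontrivial'
  have : CharP (Module.End F (ι → F)) p := charP_of_injective_algebraMap' F p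
  have hpow : ∀ i : ℕ, mat Q (g ^ i) = mat Q g ^ i := fun i => by
    induction i with
    | zero => rw [pow_zero, pow_zero, mat_one]
    | succ i ih => rw [pow_succ, pow_succ, mat_mul, ih]
  have hnp : n ^ p = 0 := by
    rw [hn, sub_pow_char_of_commute _ (Commute.one_right _), one_pow, ← map_pow, ← hpow, hg, mat_one, map_one,
      sub_self]
  have hn1 : n ≠ 0 := fun e => hg1 (mat_ext Q (by
    rw [mat_one]; exact Matrix.toLinAlgEquiv'.injective (by rw [map_one]; exact sub_eq_zero.1 e)))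
  have hex : ∃ i, n ^ i = 0 := ⟨p, hnp⟩
  set i := Nat.find hex
  have hi : n ^ i = 0 := Nat.find_spec hex
  have hi2 : 2 ≤ i := by
    by_contra hlt
    rcases (show i = 0 ∨ i = 1 by omega) with h | h <;> rw [h] at hi
    · rw [pow_zero] at hi
      exact one_ne_zero hi
    · rw [pow_one] at hi
      exact hn1 hi
  obtain ⟨z, hz⟩ : ∃ z, (n ^ (i - 1)) z ≠ 0 := by
    by_contra! h
    exact Nat.find_min hex (show i - 1 < i by omega) (LinearMap.ext h)
  have happ : ∀ w, n w = mat Q g *ᵥ w - w := fun w => by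
    rw [hn, LinearMap.sub_apply, Matrix.toLinAlgEquiv'_apply, Module.End.one_apply]
  refine ⟨_, hz, sub_eq_zero.1 ?_, (n ^ (i - 2)) z, ?_⟩
  · rw [← happ, ← Module.End.mul_apply, ← pow_succ', show i - 1 + 1 = i by omega, hi, LinearMap.zero_apply]
  · rw [← happ, ← Module.End.mul_apply, ← pow_succ', show i - 2 + 1 = i - 1 by omega]

/-- Radical vectors span a singular line. -/
theorem inRad_line {g : Isom Q} (hg : Lin K g) {a b : ι → F} (ha : InRad g a) (hb : InRad g b) :
    c.h a b = 0 := by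
  obtain ⟨z, hz⟩ := ha.2
  rw [hz, map_sub, LinearMap.sub_apply]
  conv_lhs => arg 1; arg 2; rw [← hb.1]
  rw [c.h_map hg, sub_self]

/-- Radicals are carried along. -/
theorem inRad_map {x y g : Isom Q} (e : g * y = x * g) {a : ι → F} (ha : InRad y a) :
    InRad x (mat Q g *ᵥ a) := by
  obtain ⟨h1, z, hz⟩ := ha
  refine ⟨?_, mat Q g *ᵥ z, ?_⟩
  · rw [mulVec_mulVec, ← mat_mul, ← e, mat_mul, ← mulVec_mulVec, h1]
  · rw [hz, mulVec_sub, mulVec_mulVec _ (mat Q x), ← mat_mul, ← e, mat_mul, ← mulVec_mulVec]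

theorem inRad_smul {g : Isom Q} (hg : Lin K g) {a : ι → F} (ha : InRad g a) (k : K) :
    InRad g (k • a) := by
  obtain ⟨h1, z, hz⟩ := ha
  exact ⟨by rw [hg, h1], k • z, by rw [hg, hz, smul_sub]⟩

/-- An element conjugating one unipotent member commuting with the field to another normalises it. -/
theorem norm_of_unipotent {M : Subgroup (Isom Q)} (hL : c.LineNorm M) {p : ℕ} [Fact p.Prime] [CharP F p]
    {x y g : Isom Q} (hg : g ∈ M) (e : g * y = x * g) (hx : Lin K x) (hy : Lin K y) (hyp : y ^ p = 1)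
    (hy1 : y ≠ 1) : Norm K g := by
  obtain ⟨a, ha0, ha⟩ := c.exists_inRad hyp hy1
  have hb := c.inRad_map e ha
  refine hL g hg a (mat Q g *ᵥ a) (c.inRad_line hy ha ha) ha0 (c.inRad_line hx hb hb) fun k => ?_
  have hk := c.inRad_map e (c.inRad_smul hy ha k)
  obtain ⟨l, hl⟩ := c.noPlane _ _ (mulVec_ne_zero g ha0) (c.inRad_line hx hb hb) (c.inRad_line hx hk hk)
    (c.inRad_line hx hb hk)
  exact ⟨l, hl⟩

/-- No non-trivial `p`-element commuting with the field commutes with an involution. -/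
theorem eq_one_of_commute_invol (hneg : ∀ g : Isom Q, (∀ x, mat Q g *ᵥ x = -x) → g ∉ Cfsg.Omega F ⇑Q) {p : ℕ}
    [Fact p.Prime] [CharP F p] {t e : Isom Q} (htl : Lin K t) {u v : ι → F} {ε : K} (hs : c.Splits t u v ε)
    (he : e ∈ Cfsg.Omega F ⇑Q) (hel : Lin K e) (hep : e ^ p = 1) (hc : e * t = t * e) : e = 1 := by
  obtain ⟨hp, hε, htu, htv, htw⟩ := hs
  classical
  by_contra he1
  obtain ⟨a, ha0, ha⟩ := c.exists_inRad hep he1
  have haa := c.inRad_line hel ha ha
  have hta := c.inRad_map hc.symm ha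
  obtain ⟨b, hb⟩ := c.noPlane a _ ha0 haa (c.inRad_line hel hta hta) (c.inRad_line hel ha hta)
  -- the radical line is in the plane
  have hpre : ∀ w, c.Rest u v w → c.Rest u v (mat Q e *ᵥ w) := by
    intro w hw
    set z := mat Q e *ᵥ w with hz
    have h1 : mat Q t *ᵥ z = -(ε • z) := by
      rw [hz, mulVec_mulVec, ← mat_mul, ← hc, mat_mul, ← mulVec_mulVec, htw w hw, mulVec_neg, hel]
    constructor
    · have := c.h_map htl u z
      rw [htu, h1, LinearMap.map_smul₂, map_neg, map_smul, smul_eq_mul, smul_eq_mul] at this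
      have h2 : (2 : K) * c.h u z = 0 := by
        rcases hε with rfl | rfl <;> linear_combination -this
      exact (mul_eq_zero.1 h2).resolve_left c.two'
    · have := c.h_map htl v z
      rw [htv, h1, LinearMap.map_smul₂, map_neg, map_smul, smul_eq_mul, smul_eq_mul] at this
      have h2 : (2 : K) * c.h v z = 0 := by
        rcases hε with rfl | rfl <;> linear_combination -this
      exact (mul_eq_zero.1 h2).resolve_left c.two'
  have hfix : ∀ w, c.Rest u v w → mat Q e *ᵥ w = w := by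
    intro w hw
    by_contra hne
    -- a radical vector inside the rest
    set n : Module.End F (ι → F) := Matrix.toLinAlgEquiv' (mat Q e) - 1 with hn
    have : Nontrivial (ι → F) := c.nontrivial'
    have : CharP (Module.End F (ι → F)) p := charP_of_injective_algebraMap' F p
    have happ : ∀ z, n z = mat Q e *ᵥ z - z := fun z => by
      rw [hn, LinearMap.sub_apply, Matrix.toLinAlgEquiv'_apply, Module.End.one_apply]
    have hpow : ∀ i : ℕ, mat Q (e ^ i) = mat Q e ^ i := fun i => by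
      induction i with
      | zero => rw [pow_zero, pow_zero, mat_one]
      | succ i ih => rw [pow_succ, pow_succ, mat_mul, ih]
    have hex : ∃ i, (n ^ i) w = 0 := ⟨p, by
      rw [hn, sub_pow_char_of_commute _ (Commute.one_right _), one_pow, ← map_pow, ← hpow, hep, mat_one,
        map_one, sub_self, LinearMap.zero_apply]⟩
    have hall : ∀ i, c.Rest u v ((n ^ i) w) := by
      intro i
      induction i with
      | zero => exact hw
      | succ i ih =>
        rw [pow_succ', Module.End.mul_apply, happ]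
        exact ⟨by rw [map_sub, (hpre _ ih).1, ih.1, sub_zero], by rw [map_sub, (hpre _ ih).2, ih.2, sub_zero]⟩
    set i := Nat.find hex
    have hi : (n ^ i) w = 0 := Nat.find_spec hex
    have hi2 : 2 ≤ i := by
      by_contra hlt
      rcases (show i = 0 ∨ i = 1 by omega) with h | h <;> rw [h] at hi
      · rw [pow_zero, Module.End.one_apply] at hi
        exact hne (by rw [hi, mulVec_zero])
      · rw [pow_one, happ, sub_eq_zero] at hi
        exact hne hi
    have hz : InRad e ((n ^ (i - 1)) w) := by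
      refine ⟨sub_eq_zero.1 ?_, (n ^ (i - 2)) w, ?_⟩
      · rw [← happ, ← Module.End.mul_apply, ← pow_succ', show i - 1 + 1 = i by omega, hi]
      · rw [← happ, ← Module.End.mul_apply, ← pow_succ', show i - 2 + 1 = i - 1 by omega]
    exact hp.aniso (hall _) (Nat.find_min hex (show i - 1 < i by omega)) (c.inRad_line hel hz hz)
  obtain ⟨α, hα0, hα⟩ := c.exists_isTor hneg hp he hel.norm hfix
  have hpowu : ∀ i : ℕ, mat Q (e ^ i) *ᵥ u = α ^ i • u := fun i => by
    induction i with
    | zero => rw [pow_zero, pow_zero, mat_one, one_mulVec, one_smul]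
    | succ i ih =>
      have := hα.apply_left c hp (α ^ i)
      rw [pow_succ', mat_mul, ← mulVec_mulVec, ih, this, pow_succ']
  have hαp : α ^ p = 1 := by
    refine smul_left_injective K hp.left_ne ?_
    simp only
    rw [← hpowu, hep, mat_one, one_mulVec, one_smul]
  have : CharP K p := charP_of_injective_algebraMap (algebraMap F K).injective p
  have hα1 : α = 1 := sub_eq_zero.1 (pow_eq_zero_iff (Fact.out : p.Prime).ne_zero |>.1
    (by rw [sub_pow_char, hαp, one_pow, sub_self]))
  exact he1 (isom_ext fun x => by rw [hα, hα1, mat_one, one_mulVec, torMap_apply]; simp)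

/-- A member of `Ω` outside the normaliser. -/
theorem exists_omega_not_norm : ∃ g ∈ Cfsg.Omega F ⇑Q, ¬ Norm K g := by
  have := c.fdF
  obtain ⟨u, v, hp⟩ := c.exists_pair
  obtain ⟨σ, hσ⟩ := c.exists_aut
  obtain ⟨r, hr⟩ := c.exists_acts hp.1 (c.skewMap_isSkew σ (2 : K)⁻¹)
  refine ⟨r * r, mul_self_mem_omega c.two c.nondeg r, fun hn => hσ (AlgEquiv.ext fun k => ?_)⟩
  have h2 := c.two'
  have hrr : c.Acts u (skewMap σ 1) (r * r) := fun x => by
    rw [mat_mul, ← mulVec_mulVec, hr, hr]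
    simp only [map_add, map_smul, smul_eq_mul, hp.1, mul_zero, add_zero, skewMap_apply]
    rw [add_assoc, ← add_smul]
    congr 2
    have hhalf : (2 : K)⁻¹ = algebraMap F K (2 : F)⁻¹ := by rw [map_inv₀, map_ofNat]
    rw [hhalf, one_mul, one_mul, ← Algebra.smul_def, ← Algebra.smul_def, map_smul, ← add_smul_two c.two]
  obtain ⟨w, hw, hw0⟩ := hp.exists_rest
  have hl : Lin K (r * r) := by
    intro k x
    obtain ⟨k', hk'⟩ := hn k
    have h1 := hk' w
    have hkw : c.h u (k • w) = 0 := by rw [map_smul, hw.1, smul_zero]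
    rw [hrr, hrr, hkw, hw.1, map_zero, zero_smul, add_zero, add_zero] at h1
    rw [hk', ← smul_left_injective K hw0 h1]
  -- a linear skew map vanishes
  have hT : ∀ k, skewMap σ 1 k = k * skewMap σ 1 1 := by
    intro k
    refine smul_left_injective K hp.left_ne ?_
    have := hl k v
    rw [hrr, hrr, map_smul, hp.2.2, smul_eq_mul, mul_one, smul_add, add_right_inj, ← mul_smul] at this
    exact this
  have := hT k
  simp only [skewMap_apply, map_one, one_mul, sub_self, mul_zero, sub_eq_zero] at this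
  have h3 : σ (σ k) = k := by rw [this, AlgEquiv.apply_symm_apply]
  have h4 := c.aut_cube σ k
  rwa [h3] at h4
where
  add_smul_two {A : Type _} [AddCommGroup A] [Module F A] (h2 : (2 : F) ≠ 0) {a b : A} :
      a - b = ((2 : F)⁻¹ • a - (2 : F)⁻¹ • b) + ((2 : F)⁻¹ • a - (2 : F)⁻¹ • b) := by
    rw [← smul_sub, ← add_smul, show (2 : F)⁻¹ + 2⁻¹ = 1 by field_simp; norm_num, one_smul]

/-- Subgroups of `Ω` properly containing `Ω ∩ N(K)` are `Ω`. -/
theorem omega_le (hneg : ∀ g : Isom Q, (∀ x, mat Q g *ᵥ x = -x) → g ∉ Cfsg.Omega F ⇑Q)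
    {M : Subgroup (Isom Q)} (hM : Below K M) (hMΩ : M ≤ Cfsg.Omega F ⇑Q) {g₀ : Isom Q} (hg₀ : g₀ ∈ M)
    (hg₀n : ¬ Norm K g₀) : Cfsg.Omega F ⇑Q ≤ M := by
  classical
  have := c.finite
  have := c.fdF
  have := c.nontrivial'
  by_contra hnot
  obtain ⟨u, hu0, hu⟩ := c.exists_singular
  have hz : c.NoZ M u := fun r hr hz => by
    by_contra hne
    exact hnot (c.omega_le_of_inZ hM hu hu0 hr hz hne)
  have hL : c.LineNorm M := fun x hx u₁ u₂ h₁ h₁0 h₂ hline => c.norm_of_line hM hu hu0 hz hx h₁ h₁0 h₂ hline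
  obtain ⟨p, hp⟩ := CharP.exists F
  obtain ⟨f, hpp, hq⟩ := FiniteField.card F p
  have : Fact p.Prime := ⟨hpp⟩
  let H : Subgroup M :=
    { carrier := {g | Norm K (g : Isom Q)}
      one_mem' := fun k => ⟨k, fun x => by rw [OneMemClass.coe_one, mat_one, one_mulVec, one_mulVec]⟩
      mul_mem' := fun {a b} ha hb => by
        rw [Set.mem_setOf_eq, Subgroup.coe_mul]; exact Norm.mul ha hb
      inv_mem' := fun {a} ha => by rw [Set.mem_setOf_eq, Subgroup.coe_inv]; exact Norm.inv ha }
  have hH : ∀ g : M, g ∈ H ↔ Norm K (g : Isom Q) := fun g => Iff.rfl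
  have hHtop : H ≠ ⊤ := fun e => hg₀n ((hH ⟨g₀, hg₀⟩).1 (by rw [e]; exact Subgroup.mem_top _))
  obtain ⟨t₀, ht₀M, ht₀Ω, ht₀l, ht₀2, ht₀1⟩ := c.exists_invol hneg hM
  set t₀' : M := ⟨t₀, ht₀M⟩ with ht₀'
  have ho : orderOf t₀' = 2 := orderOf_eq_prime (Subtype.ext (by rw [pow_two]; exact ht₀2))
    fun e => ht₀1 (congrArg Subtype.val e)
  have heven : Even (Nat.card H) :=
    even_iff_two_dvd.2 (ho ▸ Subgroup.orderOf_dvd_natCard H ((hH _).2 ht₀l.norm))
  have hinv : ∀ t : M, t ∈ H → orderOf t = 2 →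
      Lin K (t : Isom Q) ∧ ∃ u v ε, c.Splits (t : Isom Q) u v ε := by
    intro t ht hto
    have h2 : (t : Isom Q) * t = 1 := by
      rw [← Subgroup.coe_mul, ← pow_two, ← hto, pow_orderOf_eq_one, Subgroup.coe_one]
    have h1 : (t : Isom Q) ≠ 1 := fun e => by
      rw [show t = 1 from Subtype.ext e, orderOf_one] at hto; exact absurd hto (by decide)
    have hl := c.lin_of_invol ((hH t).1 ht) h2
    exact ⟨hl, c.exists_splits hneg (hMΩ t.2) hl h2 h1⟩
  have hse : Cfsg.IsStronglyEmbedded H := by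
    rw [Small.isStronglyEmbedded_iff hHtop heven]
    intro t ht hto g hg
    obtain ⟨htl, u₁, v₁, ε₁, hs₁⟩ := hinv t ht hto
    have hgo : orderOf (g⁻¹ * t * g) = 2 := by
      have := Small.orderOf_conj_eq g⁻¹ t
      rw [inv_inv, hto] at this
      exact this
    obtain ⟨hsl, u₂, v₂, ε₂, hs₂⟩ := hinv _ hg hgo
    obtain ⟨h, hhM, -, hhl, he⟩ := c.exists_conj hneg hM (hMΩ (g⁻¹ * t * g).2) (hMΩ t.2) hs₂ hsl hs₁ htl
    set h' : M := ⟨h, hhM⟩
    have he' : h' * (g⁻¹ * t * g) * h'⁻¹ = t := Subtype.ext he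
    have hc : g * h'⁻¹ * t = t * (g * h'⁻¹) := by
      conv_lhs => rw [← he']
      group
    have hn := c.norm_of_commute hM hMΩ hL hneg htl hs₁ (g * h'⁻¹).2 (congrArg Subtype.val hc)
    have : g * h'⁻¹ * h' ∈ H := H.mul_mem ((hH _).2 hn) ((hH h').2 hhl.norm)
    rwa [inv_mul_cancel_right] at this
  set g : M := ⟨g₀, hg₀⟩ with hgdef
  have hgH : g ∉ H := fun h => hg₀n ((hH g).1 h)
  set D := H ⊓ H.map (MulAut.conj g).toMonoidHom with hD
  have htrans : ∀ t : M, orderOf t = 2 ∧ t ∈ H → ∃ d ∈ D, d * t₀' * d⁻¹ = t := fun t ht =>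
    exists_conj_inf hse hgH ⟨ho, (hH _).2 ht₀l.norm⟩ ht
  -- a `p`-group acting freely on the involutions
  obtain ⟨u', v', hpair⟩ := c.exists_pair
  obtain ⟨w₀, hw₀, hw₀0⟩ := hpair.exists_rest
  have hRl : ∀ l : K, c.Rest u' v' (l • w₀) := fun l =>
    ⟨by rw [map_smul, hw₀.1, smul_zero], by rw [map_smul, hw₀.2, smul_zero]⟩
  choose e heM hel heΩ he using fun l : K => c.exists_eK hM hpair.1 (hRl l).1
  have hadd : ∀ l l', e l * e l' = e (l + l') := fun l l' => isom_ext fun x => by
    rw [mat_mul, ← mulVec_mulVec, he, he, he, c.eK_mul hpair.1 (hRl l).1 (hRl l').1, add_smul]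
  have he0 : e 0 = 1 := isom_ext fun x => by
    rw [he, mat_one, one_mulVec, zero_smul, eK_apply]; simp [q]
  let φE : Multiplicative K →* M :=
    { toFun := fun l => ⟨e (Multiplicative.toAdd l), heM _⟩
      map_one' := Subtype.ext he0
      map_mul' := fun a b => Subtype.ext (hadd _ _).symm }
  have hφinj : Function.Injective φE := by
    rw [injective_iff_map_eq_one]
    intro l hl
    have h1 : e (Multiplicative.toAdd l) = 1 := congrArg Subtype.val hl
    have h2 := congrArg (fun z : Isom Q => mat Q z *ᵥ w₀) h1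
    simp only [he, mat_one, one_mulVec] at h2
    rw [c.eK_rest (hRl _) hw₀, sub_eq_self, smul_eq_zero, LinearMap.map_smul₂, smul_eq_mul, mul_eq_zero] at h2
    exact (h2.resolve_right hpair.left_ne).resolve_right (hpair.aniso hw₀ hw₀0)
  let S := {t : M // orderOf t = 2 ∧ t ∈ H}
  let act : MulAction (Multiplicative K) S :=
    { smul := fun a t => ⟨φE a * t.1 * (φE a)⁻¹, by
        refine ⟨by rw [Small.orderOf_conj_eq]; exact t.2.1, ?_⟩
        have hmem : φE a ∈ H := (hel (Multiplicative.toAdd a)).norm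
        exact H.mul_mem (H.mul_mem hmem t.2.2) (H.inv_mem hmem)⟩
      one_smul := fun t => Subtype.ext (show φE 1 * t.1 * (φE 1)⁻¹ = t.1 by simp)
      mul_smul := fun a b t => Subtype.ext (show φE (a * b) * t.1 * (φE (a * b))⁻¹
        = φE a * (φE b * t.1 * (φE b)⁻¹) * (φE a)⁻¹ by rw [map_mul]; group) }
  have hfree : ∀ t : S, MulAction.stabilizer (Multiplicative K) t = ⊥ := by
    intro t
    refine (Subgroup.eq_bot_iff_forall _).2 fun a ha => hφinj ?_
    rw [map_one]
    have hc : φE a * t.1 * (φE a)⁻¹ = t.1 := congrArg Subtype.val ha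
    obtain ⟨htl, u₁, v₁, ε₁, hs₁⟩ := hinv t.1 t.2.2 t.2.1
    refine Subtype.ext (c.eq_one_of_commute_invol hneg (p := p) htl hs₁ (heΩ _) (hel _) ?_
      (congrArg Subtype.val (mul_inv_eq_iff_eq_mul.1 hc)))
    show ((φE a : M) : Isom Q) ^ p = 1
    rw [← Subgroup.coe_pow, ← map_pow]
    have : a ^ p = 1 := by
      apply Multiplicative.toAdd.injective
      rw [toAdd_pow, toAdd_one, nsmul_eq_mul, ← map_natCast (algebraMap F K), CharP.cast_eq_zero, map_zero,
        zero_mul]
    rw [this, map_one, Subgroup.coe_one]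
  have hKS : Nat.card K ∣ Nat.card S := by
    rw [Nat.card_congr (MulAction.selfEquivOrbitsQuotientProd hfree), Nat.card_prod]
    exact dvd_mul_of_dvd_right dvd_rfl _
  have hSD : Nat.card S ∣ Nat.card D := by
    let act' : MulAction D S :=
      { smul := fun d t => ⟨(d : M) * t.1 * (d : M)⁻¹,
          ⟨by rw [Small.orderOf_conj_eq]; exact t.2.1, H.mul_mem (H.mul_mem d.2.1 t.2.2) (H.inv_mem d.2.1)⟩⟩
        one_smul := fun t => Subtype.ext (show ((1 : D) : M) * t.1 * ((1 : D) : M)⁻¹ = t.1 by simp)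
        mul_smul := fun a b t => Subtype.ext (show ((a * b : D) : M) * t.1 * ((a * b : D) : M)⁻¹
          = (a : M) * ((b : M) * t.1 * (b : M)⁻¹) * (a : M)⁻¹ by rw [Subgroup.coe_mul]; group) }
    set s₀ : S := ⟨t₀', ho, (hH _).2 ht₀l.norm⟩
    have horb : MulAction.orbit D s₀ = Set.univ := Set.eq_univ_of_forall fun t => by
      obtain ⟨d, hd, hde⟩ := htrans t.1 t.2
      exact ⟨⟨d, hd⟩, Subtype.ext hde⟩
    have h1 := Nat.card_congr (MulAction.orbitEquivQuotientStabilizer D s₀)
    rw [horb, Nat.card_congr (Equiv.Set.univ S)] at h1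
    rw [h1, ← Subgroup.index_eq_card]
    exact Subgroup.index_dvd_card _
  -- linear parts
  have hDg : ∀ d : D, Norm K ((g⁻¹ * (d : M) * g : M) : Isom Q) := fun d => by
    obtain ⟨y, hy, hyd⟩ := d.2.2
    have : g⁻¹ * (d : M) * g = y := by rw [← hyd]; simp [mul_assoc]
    rw [this]; exact hy
  choose σ₁ hσ₁ using fun d : D => c.exists_semilinear ((hH _).1 d.2.1)
  choose σ₂ hσ₂ using fun d : D => c.exists_semilinear (hDg d)
  have huniq : ∀ {z : Isom Q} {σ σ' : K ≃ₐ[F] K}, (∀ (k : K) x, mat Q z *ᵥ (k • x) = σ k • (mat Q z *ᵥ x)) →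
      (∀ (k : K) x, mat Q z *ᵥ (k • x) = σ' k • (mat Q z *ᵥ x)) → σ = σ' := fun {z σ σ'} h h' =>
    AlgEquiv.ext fun k => smul_left_injective K (mulVec_ne_zero z hu0) ((h k u).symm.trans (h' k u))
  let Ψ : D →* (K ≃ₐ[F] K) × (K ≃ₐ[F] K) :=
    { toFun := fun d => (σ₁ d, σ₂ d)
      map_one' := Prod.ext (huniq (hσ₁ 1) (fun k x => by
          simp [mat_one]))
        (huniq (hσ₂ 1) (fun k x => by
          simp [mat_one]))
      map_mul' := fun a b => Prod.ext (huniq (hσ₁ (a * b)) (fun k x => by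
          show mat Q ((((a * b : D) : M)) : Isom Q) *ᵥ (k • x) = σ₁ a (σ₁ b k) • _
          rw [Subgroup.coe_mul, Subgroup.coe_mul, mat_mul, ← mulVec_mulVec, hσ₁, hσ₁, mulVec_mulVec]))
        (huniq (hσ₂ (a * b)) (fun k x => by
          show mat Q ((g⁻¹ * ((a * b : D) : M) * g : M) : Isom Q) *ᵥ (k • x) = σ₂ a (σ₂ b k) • _
          rw [show g⁻¹ * ((a * b : D) : M) * g = (g⁻¹ * (a : M) * g) * (g⁻¹ * (b : M) * g) by
            rw [Subgroup.coe_mul]; group, Subgroup.coe_mul, mat_mul, ← mulVec_mulVec, hσ₂, hσ₂, mulVec_mulVec])) }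
  have hrange : Nat.card Ψ.range ∣ 9 := by
    refine (Subgroup.card_subgroup_dvd_card _).trans ?_
    rw [Nat.card_prod, IsGalois.card_aut_eq_finrank, c.deg]
  have hker : p ∣ Nat.card Ψ.ker := by
    by_contra hnd
    have hcop : (Nat.card K).Coprime (Nat.card Ψ.ker) := by
      rw [Module.natCard_eq_pow_finrank (K := F), Nat.card_eq_fintype_card, hq, ← pow_mul]
      exact Nat.Coprime.pow_left _ (hpp.coprime_iff_not_dvd.2 hnd)
    have hidx := Ψ.ker.card_mul_index
    rw [Subgroup.index_ker] at hidx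
    have h9 := (hcop.dvd_of_dvd_mul_left (hidx.symm ▸ hKS.trans hSD)).trans hrange
    have h27 : 27 ≤ Nat.card K := by
      rw [Module.natCard_eq_pow_finrank (K := F), c.deg, Nat.card_eq_fintype_card]
      have h3 : 3 ≤ Fintype.card F := by
        have h2 : 1 < Fintype.card F := Fintype.one_lt_card
        by_contra hq3
        have : Fintype.card F = 2 := by omega
        exact c.two (by exact_mod_cast this ▸ FiniteField.cast_card_eq_zero F)
      exact Nat.pow_le_pow_left h3 3
    have := Nat.le_of_dvd (by norm_num) h9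
    omega
  obtain ⟨d, hd⟩ := exists_prime_orderOf_dvd_card' p hker
  have hdp : ((d : D) : M) ^ p = 1 := by
    rw [← Subgroup.coe_pow, ← Subgroup.coe_pow, ← hd, pow_orderOf_eq_one, Subgroup.coe_one, Subgroup.coe_one]
  have hd1 : ((d : D) : M) ≠ 1 := fun e1 => by
    rw [show d = 1 from Subtype.ext (Subtype.ext e1), orderOf_one] at hd
    exact hpp.one_lt.ne hd
  have hΨ : σ₁ d = 1 ∧ σ₂ d = 1 := Prod.ext_iff.1 (MonoidHom.mem_ker.1 d.2)
  set y : M := g⁻¹ * ((d : D) : M) * g
  have hy1 : (y : Isom Q) ≠ 1 := fun e1 => hd1 (by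
    have : y = 1 := Subtype.ext e1
    rw [show ((d : D) : M) = g * y * g⁻¹ by simp [y, mul_assoc], this, mul_one, mul_inv_cancel])
  refine hg₀n (c.norm_of_unipotent hL (p := p) (x := (((d : D) : M) : Isom Q)) (y := (y : Isom Q)) hg₀ ?_ ?_ ?_
    ?_ hy1)
  · show (g : Isom Q) * (y : Isom Q) = _ * (g : Isom Q)
    rw [← Subgroup.coe_mul, ← Subgroup.coe_mul]
    congr 1
    simp [y, mul_assoc]
  · intro k x
    rw [hσ₁, hΨ.1]; rfl
  · intro k x
    rw [hσ₂, hΨ.2]; rfl
  · have : y ^ p = 1 := by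
      rw [show y = g⁻¹ * ((d : D) : M) * (g⁻¹)⁻¹ by simp [y], conj_pow, hdp, mul_one, mul_inv_cancel]
    rw [← Subgroup.coe_pow, this, Subgroup.coe_one]

end Cubic

end CfsgLib.OrthCubic
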