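import Cfsg.Agent.LinearElements.AbelianBound

/-!
# Large prime order elements normalising groups of coprime order in small dimension

`commute_of_normalises`: an element of prime order `s ≥ 7` of a space of dimension at most six centralises
every `ℓ`-group it normalises, `ℓ` neither `s` nor the characteristic.
-/

set_option autoImplicit false
set_option linter.unusedSectionVars false

namespace CfsgLib.OrthCubic

open Module

/-- A finite group of prime exponent with a non-degenerate alternating pairing has square order. -/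
theorem exists_card_eq_sq {G L : Type*} [Group G] [Finite G] [CommRing L] [IsDomain L] {ℓ : ℕ}
    [Fact ℓ.Prime] (B : G → G → L) (hone : ∀ x, B 1 x = 1)
    (hmulL : ∀ x x' y, B (x * x') y = B x y * B x' y) (hmulR : ∀ x y y', B x (y * y') = B x y * B x y')
    (halt : ∀ x, B x x = 1) (hexp : ∀ x : G, x ^ ℓ = 1) (hnd : ∀ x : G, x ≠ 1 → ∃ y, B x y ≠ 1) :
    ∃ k, Nat.card G = ℓ ^ (2 * k) := by
  classical
  have hp : ℓ.Prime := Fact.out
  have : NeZero ℓ := ⟨hp.ne_zero⟩
  suffices H : ∀ (n : ℕ) (S : Subgroup G), Nat.card S = n → (∀ x ∈ S, x ≠ 1 → ∃ y ∈ S, B x y ≠ 1) →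
      ∃ k, n = ℓ ^ (2 * k) by
    obtain ⟨k, hk⟩ := H _ ⊤ rfl fun x _ hx => by
      obtain ⟨y, hy⟩ := hnd x hx; exact ⟨y, Subgroup.mem_top y, hy⟩
    exact ⟨k, by rw [← hk]; exact (Nat.card_congr Subgroup.topEquiv.toEquiv).symm⟩
  intro n
  induction n using Nat.strong_induction_on with
  | _ n ih =>
  intro S hS hSnd
  by_cases htriv : ∀ x ∈ S, x = 1
  · refine ⟨0, ?_⟩
    rw [← hS, mul_zero, pow_zero]
    have : Subsingleton S := ⟨fun a b => Subtype.ext ((htriv a a.2).trans (htriv b b.2).symm)⟩
    exact Nat.card_of_subsingleton (1 : S)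
  push Not at htriv
  obtain ⟨x, hx, hx1⟩ := htriv
  obtain ⟨y, hy, hxy⟩ := hSnd x hx hx1
  have hskew : ∀ a b, B a b * B b a = 1 := fun a b => by
    have h := halt (a * b)
    rwa [hmulL, hmulR, hmulR, halt, halt, one_mul, mul_one] at h
  have honeR : ∀ a, B a 1 = 1 := fun a => by
    have := hskew a 1
    rwa [hone, mul_one] at this
  have hpowL : ∀ a b (i : ℕ), B (a ^ i) b = B a b ^ i := fun a b i => by
    induction i with
    | zero => rw [pow_zero, pow_zero, hone]
    | succ i h => rw [pow_succ, hmulL, h, pow_succ]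
  have hpowR : ∀ a b (i : ℕ), B a (b ^ i) = B a b ^ i := fun a b i => by
    induction i with
    | zero => rw [pow_zero, pow_zero, honeR]
    | succ i h => rw [pow_succ, hmulR, h, pow_succ]
  have hroot : ∀ a b, B a b ^ ℓ = 1 := fun a b => by rw [← hpowL, hexp, hone]
  have hprim : IsPrimitiveRoot (B x y) ℓ := by
    rw [IsPrimitiveRoot.iff_orderOf]
    exact orderOf_eq_prime (hroot x y) hxy
  have hyx : IsPrimitiveRoot (B y x) ℓ := by
    rw [IsPrimitiveRoot.iff_orderOf]
    refine orderOf_eq_prime (hroot y x) fun h => hxy ?_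
    have := hskew x y
    rwa [h, mul_one] at this
  let S₀ : Subgroup G :=
    { carrier := {z | z ∈ S ∧ B x z = 1 ∧ B y z = 1}
      one_mem' := ⟨S.one_mem, honeR x, honeR y⟩
      mul_mem' := fun ha hb => ⟨S.mul_mem ha.1 hb.1, by rw [hmulR, ha.2.1, hb.2.1, one_mul],
        by rw [hmulR, ha.2.2, hb.2.2, one_mul]⟩
      inv_mem' := fun {a} ha => by
        refine ⟨S.inv_mem ha.1, ?_, ?_⟩
        · have := hmulR x a a⁻¹
          rwa [mul_inv_cancel, honeR, ha.2.1, one_mul, eq_comm] at this
        · have := hmulR y a a⁻¹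
          rwa [mul_inv_cancel, honeR, ha.2.2, one_mul, eq_comm] at this }
  have hx0 : ∀ z : G, z ∈ S₀ → B z x = 1 := fun z hz => by
    have := hskew x z
    rwa [hz.2.1, one_mul] at this
  have hy0 : ∀ z : G, z ∈ S₀ → B z y = 1 := fun z hz => by
    have := hskew y z
    rwa [hz.2.2, one_mul] at this
  -- every member splits
  have hsplit : ∀ z ∈ S, ∃ i j : ℕ, i < ℓ ∧ j < ℓ ∧ ∃ h ∈ S₀, z = y ^ j * x ^ i * h := by
    intro z hz
    obtain ⟨j, hj, hj'⟩ := hprim.eq_pow_of_pow_eq_one (hroot x z)
    obtain ⟨i, hi, hi'⟩ := hyx.eq_pow_of_pow_eq_one (hroot y z)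
    refine ⟨i, j, hi, hj, (y ^ j * x ^ i)⁻¹ * z,
      ⟨S.mul_mem (S.inv_mem (S.mul_mem (S.pow_mem hy j) (S.pow_mem hx i))) hz, ?_, ?_⟩, by group⟩
    · have := hmulR x (y ^ j * x ^ i) ((y ^ j * x ^ i)⁻¹ * z)
      rw [mul_inv_cancel_left, hmulR, hpowR, hpowR, halt, one_pow, mul_one, hj'] at this
      have hne : B x z ≠ 0 := fun h0 => by
        have := hroot x z; rw [h0, zero_pow hp.ne_zero] at this; exact zero_ne_one this
      exact (mul_eq_left₀ hne).1 this.symm
    · have := hmulR y (y ^ j * x ^ i) ((y ^ j * x ^ i)⁻¹ * z)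
      rw [mul_inv_cancel_left, hmulR, hpowR, hpowR, halt, one_pow, one_mul, hi'] at this
      have hne : B y z ≠ 0 := fun h0 => by
        have := hroot y z; rw [h0, zero_pow hp.ne_zero] at this; exact zero_ne_one this
      exact (mul_eq_left₀ hne).1 this.symm
  let f : Fin ℓ × Fin ℓ × S₀ → S := fun t =>
    ⟨y ^ (t.2.1 : ℕ) * x ^ (t.1 : ℕ) * (t.2.2 : G),
      S.mul_mem (S.mul_mem (S.pow_mem hy _) (S.pow_mem hx _)) t.2.2.2.1⟩
  have hf : Function.Bijective f := by
    refine ⟨fun a b hab => ?_, fun z => ?_⟩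
    · have e : y ^ (a.2.1 : ℕ) * x ^ (a.1 : ℕ) * (a.2.2 : G) = y ^ (b.2.1 : ℕ) * x ^ (b.1 : ℕ) * (b.2.2 : G) :=
        congrArg Subtype.val hab
      have e1 := congrArg (B x) e
      rw [hmulR, hmulR, hmulR, hmulR, a.2.2.2.2.1, b.2.2.2.2.1, hpowR, hpowR, hpowR, hpowR, halt, one_pow,
        one_pow, mul_one, mul_one, mul_one, mul_one] at e1
      have e2 := congrArg (B y) e
      rw [hmulR, hmulR, hmulR, hmulR, a.2.2.2.2.2, b.2.2.2.2.2, hpowR, hpowR, hpowR, hpowR, halt, one_pow,
        one_pow, mul_one, mul_one, one_mul, one_mul] at e2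
      have h1 := hyx.pow_inj a.1.2 b.1.2 e2
      have h2 := hprim.pow_inj a.2.1.2 b.2.1.2 e1
      rw [h1, h2] at e
      exact Prod.ext (Fin.ext h1) (Prod.ext (Fin.ext h2) (Subtype.ext (mul_left_cancel e)))
    · obtain ⟨i, j, hi, hj, h, hh, he⟩ := hsplit z z.2
      exact ⟨⟨⟨i, hi⟩, ⟨j, hj⟩, ⟨h, hh⟩⟩, Subtype.ext he.symm⟩
  have hcard := Nat.card_eq_of_bijective f hf
  rw [Nat.card_prod, Nat.card_prod, Nat.card_eq_fintype_card, Fintype.card_fin, hS] at hcard
  obtain ⟨k, hk⟩ := ih (Nat.card S₀) (by
    have h0 : 0 < Nat.card S₀ := Nat.card_pos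
    rw [← hcard]
    have h4 : 4 ≤ ℓ * ℓ := Nat.mul_le_mul hp.two_le hp.two_le
    calc Nat.card S₀ < 4 * Nat.card S₀ := by omega
      _ ≤ ℓ * ℓ * Nat.card S₀ := Nat.mul_le_mul_right _ h4
      _ = _ := by ring) S₀ rfl fun z hz hz1 => by
    obtain ⟨w, hw, hzw⟩ := hSnd z hz.1 hz1
    obtain ⟨i, j, -, -, h, hh, rfl⟩ := hsplit w hw
    refine ⟨h, hh, fun e => hzw ?_⟩
    rw [hmulR, hmulR, hpowR, hpowR, hx0 z hz, hy0 z hz, e, one_pow, one_pow, one_mul, one_mul]
  exact ⟨k + 1, by rw [← hcard, hk]; ring⟩

variable {F V : Type*} [Field F] [AddCommGroup V] [Module F V]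

/-- A commutative algebra of endomorphisms, as a ring. -/
@[reducible] def commRingOf {E : Subalgebra F (Module.End F V)} (hcomm : ∀ a ∈ E, ∀ b ∈ E, a * b = b * a) :
    CommRing E :=
  { (inferInstance : Ring E) with mul_comm := fun a b => Subtype.ext (hcomm a a.2 b b.2) }

variable [Fintype F] [FiniteDimensional F V]

theorem finite_end : Finite (Module.End F V) := by
  have : Finite V := Module.finite_of_finite F
  exact Finite.of_injective (fun f : Module.End F V => (f : V → V)) DFunLike.coe_injective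

/-- In a reduced finite commutative algebra, every maximal ideal has an idempotent outside it and inside
all the others. -/
theorem exists_idem {R : Type*} [CommRing R] [Finite R] [IsReduced R] (m : Ideal R) [hm : m.IsMaximal] :
    ∃ e : R, e ∉ m ∧ e * e = e ∧ (∀ c, e * c = 0 ↔ c ∈ m) ∧
      ∀ m' : Ideal R, m'.IsMaximal → m' ≠ m → e ∈ m' := by
  classical
  let _ := Fintype.ofFinite (Ideal R)
  have hzero : ∀ a : R, (∀ p : Ideal R, p.IsMaximal → a ∈ p) → a = 0 := fun a ha => by
    have h : a ∈ nilradical R := by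
      rw [nilradical_eq_sInf, Submodule.mem_sInf]
      intro p hp
      have : Ideal.IsPrime p := hp
      have : Finite (R ⧸ p) := Quotient.finite _
      exact ha p (Ideal.Quotient.maximal_of_isField _ (Finite.isField_of_domain (R ⧸ p)))
    exact (IsReduced.eq_zero _ (mem_nilradical.1 h))
  let idx := {p : Ideal R // p.IsMaximal}
  obtain ⟨e, he⟩ := Ideal.exists_forall_sub_mem_ideal (I := fun p : idx => p.1)
    (fun p p' hpp => Ideal.isCoprime_iff_sup_eq.2 (p.2.coprime_of_ne p'.2 fun h => hpp (Subtype.ext h)))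
    (fun p => if p.1 = m then (1 : R) else 0)
  have he1 : e - 1 ∈ m := by simpa using he ⟨m, hm⟩
  have he0 : ∀ m' : Ideal R, m'.IsMaximal → m' ≠ m → e ∈ m' := fun m' hm' hne => by
    simpa [hne] using he ⟨m', hm'⟩
  have hem : e ∉ m := fun h => hm.ne_top (m.eq_top_iff_one.2 (by
    have := m.sub_mem h he1
    simpa using this))
  refine ⟨e, hem, ?_, fun c => ⟨fun h => ?_, fun h => ?_⟩, he0⟩
  · refine sub_eq_zero.1 (hzero _ fun p hp => ?_)
    rw [show e * e - e = e * (e - 1) by ring]
    rcases eq_or_ne p m with rfl | hne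
    · exact Ideal.mul_mem_left _ _ he1
    · exact Ideal.mul_mem_right _ _ (he0 p hp hne)
  · exact (hm.isPrime.mem_or_mem (h ▸ m.zero_mem)).resolve_left hem
  · refine hzero _ fun p hp => ?_
    rcases eq_or_ne p m with rfl | hne
    · exact Ideal.mul_mem_left _ _ h
    · exact Ideal.mul_mem_right _ _ (he0 p hp hne)

/-- An automorphism of large prime order of a commutative reduced algebra of endomorphisms, induced by
conjugation, is trivial. -/
theorem commute_of_algebra {s : ℕ} [hs : Fact s.Prime] (hn : finrank F V < s) {E : Subalgebra F (Module.End F V)}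
    (hcomm : ∀ a ∈ E, ∀ b ∈ E, a * b = b * a) (hred : ∀ a ∈ E, ∀ k : ℕ, a ^ k = 0 → a = 0)
    {t : (Module.End F V)ˣ} (ht : t ^ s = 1)
    (hE : ∀ a ∈ E, (t : Module.End F V) * a * ((t⁻¹ : (Module.End F V)ˣ) : Module.End F V) ∈ E) :
    ∀ a ∈ E, (t : Module.End F V) * a = a * t := by
  classical
  let _ : CommRing E := commRingOf hcomm
  have := finite_end (F := F) (V := V)
  have : Finite E := Subtype.finite
  have : IsReduced E := ⟨fun a ⟨k, hk⟩ => Subtype.ext (hred a a.2 k (by
    have := congrArg Subtype.val hk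
    simpa using this))⟩
  let φ : E →+* E :=
    { toFun := fun a => ⟨_, hE a a.2⟩
      map_one' := Subtype.ext (by simp)
      map_mul' := fun a b => Subtype.ext (by simp [mul_assoc])
      map_zero' := Subtype.ext (by simp)
      map_add' := fun a b => Subtype.ext (by simp [mul_add, add_mul]) }
  have hφ : ∀ a : E, (φ a : Module.End F V)
      = (t : Module.End F V) * a * ((t⁻¹ : (Module.End F V)ˣ) : Module.End F V) := fun a => rfl
  have hiter : ∀ (i : ℕ) (a : E), ((φ^[i]) a : Module.End F V)
      = ((t ^ i : (Module.End F V)ˣ) : Module.End F V) * a * (((t ^ i)⁻¹ : (Module.End F V)ˣ) : Module.End F V) := by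
    intro i
    induction i with
    | zero => intro a; simp
    | succ i ih =>
      intro a
      rw [Function.iterate_succ_apply', hφ, ih, pow_succ', mul_inv_rev, Units.val_mul, Units.val_mul]
      simp [mul_assoc]
  have hφs : ∀ a : E, (φ^[s]) a = a := fun a => Subtype.ext (by rw [hiter, ht]; simp)
  -- maximal ideals are fixed
  have hfix : ∀ m : Ideal E, m.IsMaximal → Ideal.comap φ m = m := by
    intro m hm
    by_contra hne
    let f : Ideal E → Ideal E := fun p => Ideal.comap φ p
    have hf : ∀ (i : ℕ) (p : Ideal E) (a : E), a ∈ (f^[i]) p ↔ (φ^[i]) a ∈ p := by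
      intro i
      induction i with
      | zero => intro p a; rfl
      | succ i ih => intro p a; rw [Function.iterate_succ_apply, ih, Ideal.mem_comap, Function.iterate_succ_apply']
    have hper : Function.IsPeriodicPt f s m := Ideal.ext fun a => by rw [hf, hφs]
    have hmp : Function.minimalPeriod f m = s := by
      rcases hs.out.eq_one_or_self_of_dvd _ hper.minimalPeriod_dvd with h | h
      · exact absurd (Function.minimalPeriod_eq_one_iff_isFixedPt.1 h) hne
      · exact h
    let P : Fin s → Ideal E := fun i => (f^[i]) m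
    have hPinj : Function.Injective P := fun i j h => Fin.ext (Function.iterate_injOn_Iio_minimalPeriod
      (by rw [hmp]; exact i.2) (by rw [hmp]; exact j.2) h)
    have hPmax : ∀ i, (P i).IsMaximal := by
      intro i
      have hprime : ∀ (k : ℕ) (p : Ideal E), p.IsPrime → ((f^[k]) p).IsPrime := by
        intro k
        induction k with
        | zero => intro p hp; exact hp
        | succ k ih => intro p hp; rw [Function.iterate_succ_apply]; exact ih _ (Ideal.comap_isPrime φ p)
      have : Ideal.IsPrime (P i) := hprime i m hm.isPrime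
      have : Finite (E ⧸ P i) := Quotient.finite _
      exact Ideal.Quotient.maximal_of_isField _ (Finite.isField_of_domain (E ⧸ P i))
    choose e he hee hec heo using fun i => exists_idem (P i) (hm := hPmax i)
    have hv : ∀ i, ∃ v : V, (e i : Module.End F V) v ≠ 0 := fun i => by
      by_contra! h
      exact he i (by rw [show e i = 0 from Subtype.ext (LinearMap.ext h)]; exact (P i).zero_mem)
    choose v hv using hv
    have hLI : LinearIndependent F fun i => (e i : Module.End F V) (v i) := by
      rw [Fintype.linearIndependent_iff]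
      intro c hc i
      have h := congrArg (e i : Module.End F V) hc
      rw [map_sum, map_zero, Finset.sum_eq_single i] at h
      · rw [map_smul, ← Module.End.mul_apply, ← Subalgebra.coe_mul, hee] at h
        exact (smul_eq_zero.1 h).resolve_right (hv i)
      · intro j _ hji
        rw [map_smul, ← Module.End.mul_apply, ← Subalgebra.coe_mul,
          (hec i (e j)).2 (heo j (P i) (hPmax i) fun h => hji (hPinj h).symm)]
        simp
      · intro h; exact absurd (Finset.mem_univ i) h
    have := hLI.fintype_card_le_finrank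
    rw [Fintype.card_fin] at this
    omega
  intro a ha
  set x : E := ⟨a, ha⟩
  suffices φ x = x by
    have h := congrArg Subtype.val this
    rw [hφ] at h
    have h2 : (t : Module.End F V) * a * ((t⁻¹ : (Module.End F V)ˣ) : Module.End F V) * (t : Module.End F V)
        = a * t := by rw [h]
    rwa [mul_assoc, Units.inv_mul, mul_one] at h2
  refine sub_eq_zero.1 ?_
  have hzero : ∀ b : E, (∀ m : Ideal E, m.IsMaximal → b ∈ m) → b = 0 := by
    intro b hb
    have h : b ∈ nilradical E := by
      rw [nilradical_eq_sInf, Submodule.mem_sInf]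
      intro p hp
      have : Ideal.IsPrime p := hp
      have : Finite (E ⧸ p) := Quotient.finite _
      exact hb p (Ideal.Quotient.maximal_of_isField _ (Finite.isField_of_domain (E ⧸ p)))
    exact IsReduced.eq_zero _ (mem_nilradical.1 h)
  refine hzero _ fun m hm => ?_
  rw [← Ideal.Quotient.eq_zero_iff_mem, map_sub, sub_eq_zero]
  by_contra hne
  let ψ : E ⧸ m →+* E ⧸ m := Ideal.quotientMap m φ (hfix m hm).ge
  have hψ : ∀ b, ψ (Ideal.Quotient.mk m b) = Ideal.Quotient.mk m (φ b) := fun b => rfl
  have hψi : ∀ (i : ℕ) (b : E), (ψ^[i]) (Ideal.Quotient.mk m b) = Ideal.Quotient.mk m ((φ^[i]) b) := by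
    intro i
    induction i with
    | zero => intro b; rfl
    | succ i ih => intro b; rw [Function.iterate_succ_apply, hψ, ih, Function.iterate_succ_apply]
  set z := Ideal.Quotient.mk m x
  have hper : Function.IsPeriodicPt ψ s z := by
    show (ψ^[s]) z = z
    rw [hψi, hφs]
  have hmp : Function.minimalPeriod ψ z = s := by
    rcases hs.out.eq_one_or_self_of_dvd _ hper.minimalPeriod_dvd with h | h
    · exact absurd (Function.minimalPeriod_eq_one_iff_isFixedPt.1 h) hne
    · exact h
  -- all conjugates are roots of one polynomial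
  obtain ⟨μ, hμ⟩ : ∃ μ, μ = LinearMap.charpoly a := ⟨_, rfl⟩
  have hφalg : ∀ r : F, φ (algebraMap F E r) = algebraMap F E r := fun r => Subtype.ext (by
    rw [hφ, Subalgebra.coe_algebraMap, ← Algebra.commutes r ((t : Module.End F V)), mul_assoc,
      Units.mul_inv, mul_one])
  have : m.IsPrime := hm.isPrime
  have : IsDomain (E ⧸ m) := Ideal.Quotient.isDomain m
  have : Nontrivial (E ⧸ m) := Ideal.Quotient.nontrivial_iff.2 hm.ne_top
  let g : E →ₐ[F] E ⧸ m := Ideal.Quotient.mkₐ F m
  have hroot : ∀ i : ℕ, Polynomial.aeval ((ψ^[i]) z) μ = 0 := by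
    intro i
    let φA : E →ₐ[F] E := { φ with commutes' := hφalg }
    have hx : Polynomial.aeval x μ = 0 := Subtype.ext (by
      rw [← Subalgebra.coe_val E, ← Polynomial.aeval_algHom_apply]
      rw [hμ]
      exact LinearMap.aeval_self_charpoly a)
    have hxi : ∀ i : ℕ, Polynomial.aeval ((φ^[i]) x) μ = 0 := fun i => by
      induction i with
      | zero => exact hx
      | succ i ih =>
        rw [Function.iterate_succ_apply', show φ ((φ^[i]) x) = φA ((φ^[i]) x) from rfl,
          Polynomial.aeval_algHom_apply, ih, map_zero]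
    rw [hψi, show Ideal.Quotient.mk m ((φ^[i]) x) = g ((φ^[i]) x) from rfl, Polynomial.aeval_algHom_apply, hxi,
      map_zero]
  have hμ0 : μ.map (algebraMap F (E ⧸ m)) ≠ 0 :=
    (Polynomial.Monic.map _ (hμ ▸ LinearMap.charpoly_monic a)).ne_zero
  have hsub : ∀ i : Fin s, (ψ^[i]) z ∈ (μ.map (algebraMap F (E ⧸ m))).roots.toFinset := fun i => by
    rw [Multiset.mem_toFinset, Polynomial.mem_roots hμ0, Polynomial.IsRoot, Polynomial.eval_map]
    exact hroot i
  have hinj : Function.Injective fun i : Fin s => (ψ^[i]) z := fun i j h => Fin.ext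
    (Function.iterate_injOn_Iio_minimalPeriod (by rw [hmp]; exact i.2) (by rw [hmp]; exact j.2) h)
  have h1 := Finset.card_le_card_of_injOn (s := (Finset.univ : Finset (Fin s))) _
    (fun i _ => hsub i) (hinj.injOn)
  rw [Finset.card_univ, Fintype.card_fin] at h1
  have h2 := (Multiset.toFinset_card_le _).trans (Polynomial.card_roots' (μ.map (algebraMap F (E ⧸ m))))
  rw [Polynomial.natDegree_map_eq_of_injective (algebraMap F (E ⧸ m)).injective,
    hμ, LinearMap.charpoly_natDegree] at h2
  rw [hμ] at h1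
  omega

end CfsgLib.OrthCubic
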