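import Cfsg.Agent.OrthCubic.Setup

/-!
# The torus of a hyperbolic pair and the field automorphisms
-/

set_option autoImplicit false
set_option linter.unusedSectionVars false

namespace CfsgLib.OrthCubic

open Matrix Module CfsgLib.Spinor CfsgLib.OrthMax

variable {F : Type*} [Field F] [Fintype F] {ι : Type} [Fintype ι] [DecidableEq ι]
  {Q : QuadraticForm F (ι → F)}
variable {K : Type*} [Field K] [Algebra F K] [Module K (ι → F)] [IsScalarTower F K (ι → F)]

namespace Cubic

variable (c : Cubic Q K)
include c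

theorem fdF : FiniteDimensional F K := FiniteDimensional.of_finrank_pos (by rw [c.deg]; omega)

/-- Field automorphisms have order dividing three. -/
theorem aut_cube (e : K ≃ₐ[F] K) (x : K) : e (e (e x)) = x := by
  have := c.finite
  have := c.fdF
  have h3 : Nat.card (K ≃ₐ[F] K) = 3 := by rw [IsGalois.card_aut_eq_finrank, c.deg]
  have he := h3 ▸ pow_card_eq_one' (x := e)
  exact congrArg (fun f : K ≃ₐ[F] K => f x) he

/-- A field automorphism inverts only the elements of square one. -/
theorem sq_eq_one_of_inv (e : K ≃ₐ[F] K) {k : K} (hk : k ≠ 0) (h : e k = k⁻¹) : k * k = 1 := by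
  have h1 : e (e k) = k := by rw [h, map_inv₀, h, inv_inv]
  have h2 : e k = k := by
    conv_rhs => rw [← c.aut_cube e k]
    rw [h1]
  rw [h] at h2
  nth_rw 1 [← h2]
  exact inv_mul_cancel₀ hk

/-- An additive map intertwining `k` with an element not conjugate to it vanishes. -/
theorem intertwine_eq_zero {A : K →ₗ[F] K} {k k' : K} (hne : ∀ e : K ≃ₐ[F] K, e k ≠ k')
    (hA : ∀ l, A (k * l) = k' * A l) : A = 0 := by
  have := c.finite
  have := c.fdF
  have hpoly : ∀ (f : Polynomial F) (l : K), A (Polynomial.aeval k f * l) = Polynomial.aeval k' f * A l := by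
    intro f
    induction f using Polynomial.induction_on' with
    | add f g hf hg => intro l; rw [map_add, map_add, add_mul, map_add, hf, hg, add_mul]
    | monomial n a =>
      have hp : ∀ (n : ℕ) (l : K), A (k ^ n * l) = k' ^ n * A l := fun n => by
        induction n with
        | zero => intro l; simp
        | succ n ih => intro l; rw [pow_succ', mul_assoc, hA, ih, pow_succ', mul_assoc]
      intro l
      rw [Polynomial.aeval_monomial, Polynomial.aeval_monomial, ← Algebra.smul_def, ← Algebra.smul_def,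
        smul_mul_assoc, map_smul, hp, smul_mul_assoc]
  have hk : IsIntegral F k := Algebra.IsIntegral.isIntegral k
  have hne' : Polynomial.aeval k' (minpoly F k) ≠ 0 := fun h0 => by
    have hirr := minpoly.irreducible hk
    have he : minpoly F k' = minpoly F k :=
      (minpoly.eq_of_irreducible_of_monic hirr h0 (minpoly.monic hk)).symm
    obtain ⟨e, he'⟩ := minpoly.exists_algEquiv_of_root' (K := F) (L := K) hk.isAlgebraic h0
    exact hne e he'
  ext l
  have h := hpoly (minpoly F k) l
  rw [minpoly.aeval, zero_mul, map_zero, eq_comm, mul_eq_zero] at h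
  exact h.resolve_left hne'

/-! ### The torus -/

/-- The map scaling a pair by `k` and `k⁻¹`. -/
def torMap (u v : ι → F) (k : K) : (ι → F) →ₗ[K] (ι → F) :=
  LinearMap.id + ((k - 1) • c.h v).smulRight u + ((k⁻¹ - 1) • c.h u).smulRight v

theorem torMap_apply (u v : ι → F) (k : K) (x : ι → F) :
    c.torMap u v k x = x + ((k - 1) * c.h v x) • u + ((k⁻¹ - 1) * c.h u x) • v := rfl

theorem h_torMap {u v : ι → F} (hp : c.Pair u v) {k : K} (hk : k ≠ 0) (x y : ι → F) :
    c.h (c.torMap u v k x) (c.torMap u v k y) = c.h x y := by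
  simp only [torMap_apply, map_add, map_smul, LinearMap.add_apply, LinearMap.smul_apply, smul_eq_mul,
    hp.1, hp.2.1, hp.2.2, hp.vu, c.symm x u, c.symm x v, c.symm y u, c.symm y v]
  field_simp
  ring

/-- An isometry scaling a pair. -/
def IsTor (u v : ι → F) (k : K) (g : Isom Q) : Prop := ∀ x, mat Q g *ᵥ x = c.torMap u v k x

theorem IsTor.lin {u v : ι → F} {k : K} {g : Isom Q} (hg : c.IsTor u v k g) : Lin K g :=
  fun l x => by rw [hg, hg, map_smul]

theorem IsTor.apply_left {u v : ι → F} (hp : c.Pair u v) {k : K} {g : Isom Q} (hg : c.IsTor u v k g) (a : K) :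
    mat Q g *ᵥ (a • u) = (k * a) • u := by
  rw [hg, torMap_apply]
  simp [hp.1, hp.vu]
  module

theorem IsTor.apply_right {u v : ι → F} (hp : c.Pair u v) {k : K} {g : Isom Q} (hg : c.IsTor u v k g) (a : K) :
    mat Q g *ᵥ (a • v) = (k⁻¹ * a) • v := by
  rw [hg, torMap_apply]
  simp [hp.2.1, hp.2.2]
  module

theorem IsTor.apply_rest {u v : ι → F} {k : K} {g : Isom Q} (hg : c.IsTor u v k g) {w : ι → F}
    (hw : c.Rest u v w) : mat Q g *ᵥ w = w := by
  rw [hg, torMap_apply, hw.1, hw.2]
  simp

theorem IsTor.inv {u v : ι → F} (hp : c.Pair u v) {k : K} (hk : k ≠ 0) {g : Isom Q}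
    (hg : c.IsTor u v k g) : c.IsTor u v k⁻¹ g⁻¹ := fun x => by
  refine (mulVec_eq_iff g).1 ?_
  rw [mulVec_inv_cancel, hg]
  simp only [torMap_apply, map_add, map_smul, smul_eq_mul, hp.1, hp.2.1, hp.2.2, hp.vu, inv_inv]
  match_scalars <;> field_simp <;> ring

theorem exists_tor_isom {u v : ι → F} (hp : c.Pair u v) {k : K} (hk : k ≠ 0) :
    ∃ g : Isom Q, c.IsTor u v k g :=
  c.exists_isom _ (c.h_torMap hp hk)

/-- Square parameters give members of the group. -/
theorem exists_tor {M : Subgroup (Isom Q)} (hM : Below K M) {u v : ι → F} (hp : c.Pair u v) {l : K}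
    (hl : l ≠ 0) : ∃ g ∈ M, g ∈ Cfsg.Omega F ⇑Q ∧ c.IsTor u v (l * l) g := by
  obtain ⟨g, hg⟩ := c.exists_tor_isom hp hl
  refine ⟨g * g, c.sq_mem hM hg.lin, mul_self_mem_omega c.two c.nondeg g, fun x => ?_⟩
  rw [mat_mul, ← mulVec_mulVec, hg, hg]
  simp only [torMap_apply, map_add, map_smul, smul_eq_mul, hp.1, hp.2.1, hp.2.2, hp.vu, mul_inv]
  match_scalars <;> field_simp <;> ring

/-- A square which is neither `1` nor `-1`. -/
theorem exists_good_square : ∃ l : K, l ≠ 0 ∧ (l * l) * (l * l) ≠ 1 := by
  classical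
  have := c.finite
  have := c.fdF
  let _ := Fintype.ofFinite K
  by_contra! hall
  have hsub : (Finset.univ : Finset K) ⊆ insert 0 (Polynomial.nthRootsFinset 4 (1 : K)) := fun l _ => by
    rcases eq_or_ne l 0 with rfl | hl
    · exact Finset.mem_insert_self _ _
    · refine Finset.mem_insert_of_mem ((Polynomial.mem_nthRootsFinset (by norm_num) (1 : K)).2 ?_)
      rw [← hall l hl]; ring
  have h1 := (Finset.card_le_card hsub).trans (Finset.card_insert_le _ _)
  have h2 : (Polynomial.nthRootsFinset 4 (1 : K)).card ≤ 4 := by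
    rw [Polynomial.nthRootsFinset_def]
    exact (Multiset.toFinset_card_le _).trans (Polynomial.card_nthRoots 4 1)
  rw [Finset.card_univ, Module.card_eq_pow_finrank (K := F), c.deg] at h1
  have h3 : 2 ≤ Fintype.card F := Fintype.one_lt_card
  have h4 : 2 ^ 3 ≤ Fintype.card F ^ 3 := Nat.pow_le_pow_left h3 3
  omega

end Cubic

end CfsgLib.OrthCubic
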